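import Groth.Agent.L23.SepEt.DatumStage

/-!
# A descent datum over a limit of affine sources comes from a datum at a stage
-/

set_option autoImplicit false
set_option linter.style.haveILetI false
set_option linter.unusedSectionVars false
set_option backward.isDefEq.respectTransparency.types false

universe u

open CategoryTheory CategoryTheory.Limits AlgebraicGeometry Groth.L20.SchDesc Groth.L19.Limit

namespace Groth.L23.SepEt

variable {S : Scheme.{u}} {I : Type u} [SmallCategory I] [IsCofiltered I] {D : I ⥤ Over S}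
  [IsAffine S] [∀ j, IsAffine (D.obj j).left] {c : Cone D} {V : Scheme.{u}} {f : V ⟶ c.pt.left}

/-- A stage of a descent datum: the scheme and its translation map. -/
structure Stage (P : Pre c.pt.hom f) (i : I) where
  /-- the scheme at the stage -/
  obj : Scheme.{u}
  /-- its structure map -/
  hom : obj ⟶ (D.obj i).left
  /-- the projection from the limit -/
  proj : V ⟶ obj
  /-- the translation map -/
  tr : pullback (hom ≫ (D.obj i).hom) (D.obj i).hom ⟶ obj
  etale : Etale hom
  sep : IsSeparated hom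
  qc : QuasiCompact hom
  sq : IsPullback proj f hom (c.π.app i).left
  tr_hom : tr ≫ hom = pullback.snd _ _
  act_proj : ∀ {T : Scheme.{u}} (v : T ⟶ V) (x : T ⟶ c.pt.left) (h : v ≫ f ≫ c.pt.hom = x ≫ c.pt.hom)
      (h' : (v ≫ proj) ≫ hom ≫ (D.obj i).hom = (x ≫ (c.π.app i).left) ≫ (D.obj i).hom),
      P.act v x h ≫ proj = stageAct hom tr (v ≫ proj) (x ≫ (c.π.app i).left) h'

variable {P : Pre c.pt.hom f} {i : I}

/-- The translation fixes every point. -/
def Stage.SelfEq (St : Stage P i) : Prop :=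
  ∀ {T : Scheme.{u}} (v : T ⟶ St.obj) (h : v ≫ St.hom ≫ (D.obj i).hom = (v ≫ St.hom) ≫ (D.obj i).hom),
    stageAct St.hom St.tr v (v ≫ St.hom) h = v

/-- The translation is associative. -/
def Stage.CompEq (St : Stage P i) : Prop :=
  ∀ {T : Scheme.{u}} (v : T ⟶ St.obj) (x y : T ⟶ (D.obj i).left) (h : v ≫ St.hom ≫ (D.obj i).hom = x ≫ (D.obj i).hom)
    (h' : stageAct St.hom St.tr v x h ≫ St.hom ≫ (D.obj i).hom = y ≫ (D.obj i).hom)
    (h'' : v ≫ St.hom ≫ (D.obj i).hom = y ≫ (D.obj i).hom),
    stageAct St.hom St.tr (stageAct St.hom St.tr v x h) y h' = stageAct St.hom St.tr v y h''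

theorem Stage.act_hom (St : Stage P i) {T : Scheme.{u}} (v : T ⟶ St.obj) (x : T ⟶ (D.obj i).left)
    (h : v ≫ St.hom ≫ (D.obj i).hom = x ≫ (D.obj i).hom) : stageAct St.hom St.tr v x h ≫ St.hom = x := by
  rw [stageAct, Category.assoc, St.tr_hom, pullback.lift_snd]

theorem Stage.act_congr (St : Stage P i) {T : Scheme.{u}} {v v' : T ⟶ St.obj} {x x' : T ⟶ (D.obj i).left}
    (hv : v = v') (hx : x = x') (h : v ≫ St.hom ≫ (D.obj i).hom = x ≫ (D.obj i).hom)
    (h' : v' ≫ St.hom ≫ (D.obj i).hom = x' ≫ (D.obj i).hom) :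
    stageAct St.hom St.tr v x h = stageAct St.hom St.tr v' x' h' := by
  subst hv hx; rfl

theorem stage_p {j : I} (φ : j ⟶ i) : (D.map φ).left ≫ (D.obj i).hom = (D.obj j).hom := Over.w (D.map φ)

/-- The cone projections commute with a transition map. -/
theorem stage_w {j : I} (φ : j ⟶ i) : (c.π.app j).left ≫ (D.map φ).left = (c.π.app i).left :=
  congrArg CommaMorphism.left (c.w φ)

theorem Stage.change_cond (St : Stage P i) {j : I} (φ : j ⟶ i) :
    (pullback.fst (pullback.snd St.hom (D.map φ).left ≫ (D.obj j).hom) (D.obj j).hom ≫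
      pullback.fst St.hom (D.map φ).left) ≫ St.hom ≫ (D.obj i).hom =
    (pullback.snd (pullback.snd St.hom (D.map φ).left ≫ (D.obj j).hom) (D.obj j).hom ≫
      (D.map φ).left) ≫ (D.obj i).hom := by
  simp only [Category.assoc, stage_p, pullback.condition_assoc]
  exact pullback.condition

/-- The stage changed along a transition map. -/
noncomputable def Stage.change (St : Stage P i) {j : I} (φ : j ⟶ i) : Stage P j where
  obj := pullback St.hom (D.map φ).left
  hom := pullback.snd _ _
  proj := pullback.lift St.proj (f ≫ (c.π.app j).left) (by rw [Category.assoc, stage_w, St.sq.w])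
  tr := pullback.lift (stageAct St.hom St.tr _ _ (St.change_cond φ)) (pullback.snd _ _) (St.act_hom _ _ _)
  etale := MorphismProperty.pullback_snd _ _ St.etale
  sep := MorphismProperty.pullback_snd _ _ St.sep
  qc := MorphismProperty.pullback_snd _ _ St.qc
  sq := IsPullback.of_right (by rw [pullback.lift_fst, stage_w]; exact St.sq) (pullback.lift_snd _ _ _)
    (IsPullback.of_hasPullback _ _)
  tr_hom := pullback.lift_snd _ _ _
  act_proj := by
    intro T v x h h'
    have hh : (v ≫ St.proj) ≫ St.hom ≫ (D.obj i).hom = (x ≫ (c.π.app i).left) ≫ (D.obj i).hom := by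
      simp only [Category.assoc, Over.w (c.π.app i), St.sq.w_assoc]
      exact h
    simp only [stageAct]
    apply pullback.hom_ext
    · simp only [Category.assoc, pullback.lift_fst]
      rw [St.act_proj v x h hh]
      refine (stageAct_natural _ _ _ _ _ _ _ ?_ ?_).symm
      · simp only [pullback.lift_fst_assoc, Category.assoc, pullback.lift_fst]
      · simp only [pullback.lift_snd_assoc, Category.assoc, stage_w]
    · simp only [Category.assoc, pullback.lift_snd]
      rw [← Category.assoc, P.hom]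

/-- The projection from a changed stage. -/
noncomputable def Stage.fst (St : Stage P i) {j : I} (φ : j ⟶ i) : (St.change φ).obj ⟶ St.obj :=
  pullback.fst _ _

theorem Stage.fst_hom (St : Stage P i) {j : I} (φ : j ⟶ i) :
    St.fst φ ≫ St.hom = (St.change φ).hom ≫ (D.map φ).left := pullback.condition

theorem Stage.change_act_fst (St : Stage P i) {j : I} (φ : j ⟶ i) {T : Scheme.{u}}
    (v : T ⟶ (St.change φ).obj) (x : T ⟶ (D.obj j).left)
    (h : v ≫ (St.change φ).hom ≫ (D.obj j).hom = x ≫ (D.obj j).hom)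
    (h' : (v ≫ St.fst φ) ≫ St.hom ≫ (D.obj i).hom = (x ≫ (D.map φ).left) ≫ (D.obj i).hom) :
    stageAct (St.change φ).hom (St.change φ).tr v x h ≫ St.fst φ =
      stageAct St.hom St.tr (v ≫ St.fst φ) (x ≫ (D.map φ).left) h' := by
  refine ((Category.assoc _ _ _).trans (congrArg (pullback.lift v x h ≫ ·) (pullback.lift_fst _ _ _))).trans ?_
  refine stageAct_natural _ _ _ _ _ _ _ ?_ ?_
  · exact (Category.assoc _ _ _).symm.trans (congrArg (· ≫ _) (pullback.lift_fst _ _ _))
  · exact (Category.assoc _ _ _).symm.trans (congrArg (· ≫ _) (pullback.lift_snd _ _ _))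

theorem Stage.change_cond' (St : Stage P i) {j : I} (φ : j ⟶ i) {T : Scheme.{u}}
    (v : T ⟶ (St.change φ).obj) {x : T ⟶ (D.obj j).left}
    (h : v ≫ (St.change φ).hom ≫ (D.obj j).hom = x ≫ (D.obj j).hom) :
    (v ≫ St.fst φ) ≫ St.hom ≫ (D.obj i).hom = (x ≫ (D.map φ).left) ≫ (D.obj i).hom := by
  rw [Category.assoc, Category.assoc, stage_p, reassoc_of% (St.fst_hom φ), stage_p]
  exact h

theorem exists_selfEq (hc : IsLimit ((Over.forget S).mapCone c)) (St : Stage P i) :
    ∃ (j : I) (φ : j ⟶ i), (St.change φ).SelfEq := by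
  let DX := D ⋙ Over.forget S
  haveI : ∀ j, IsAffine (DX.obj j) := fun j => inferInstanceAs (IsAffine (D.obj j).left)
  haveI : ∀ {i j} (φ : i ⟶ j), IsAffineHom (DX.map φ) := fun _ => isAffineHom_of_isAffine _
  haveI := St.etale; haveI := St.qc
  haveI : CompactSpace St.obj := QuasiCompact.compactSpace_of_compactSpace St.hom
  haveI : Smooth St.hom := inferInstance
  haveI : LocallyOfFinitePresentation St.hom := inferInstance
  haveI : LocallyOfFiniteType St.hom := inferInstance
  haveI : @LocallyOfFiniteType St.obj (DX.obj i) St.hom := (inferInstance : LocallyOfFiniteType St.hom)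
  let e₁ : St.obj ⟶ St.obj := stageAct St.hom St.tr (𝟙 _) (𝟙 _ ≫ St.hom) (Category.assoc _ _ _).symm
  have h₁ : e₁ ≫ St.hom = St.hom := (St.act_hom _ _ _).trans (Category.id_comp _)
  have h₂ : St.proj ≫ e₁ = St.proj ≫ 𝟙 _ := by
    have hh : (𝟙 V ≫ St.proj) ≫ St.hom ≫ (D.obj i).hom = (f ≫ (c.π.app i).left) ≫ (D.obj i).hom := by
      rw [Category.id_comp, ← Category.assoc, St.sq.w]
    rw [Category.comp_id]
    refine (stageAct_natural _ _ _ _ _ _ hh ?_ ?_).trans
      ((St.act_proj (𝟙 V) f (Category.id_comp _) hh).symm.trans ?_)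
    · rw [Category.comp_id, Category.id_comp]
    · rw [Category.id_comp]; exact St.sq.w
    · rw [P.act_congr rfl (Category.id_comp f).symm _ (Category.assoc _ _ _).symm, P.self, Category.id_comp]
  obtain ⟨j, φ, hj⟩ := exists_fst_comp_eq (D := DX) hc St.sq e₁ (𝟙 _) h₁ (Category.id_comp _) h₂
  replace hj : St.fst φ ≫ e₁ = St.fst φ :=
    hj.trans (Category.comp_id _)
  refine ⟨j, φ, fun {T} v h => pullback.hom_ext ?_ ((St.change φ).act_hom _ _ _)⟩
  refine (St.change_act_fst φ v _ h (St.change_cond' φ v h)).trans ?_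
  have hn : (v ≫ St.fst φ) ≫ e₁ = v ≫ St.fst φ := by
    rw [Category.assoc, hj]
  refine Eq.trans ?_ hn
  refine (stageAct_natural _ _ _ _ _ _ _ (Category.comp_id _) ?_).symm
  rw [Category.id_comp, Category.assoc, Category.assoc, St.fst_hom]

theorem Stage.selfEq_change {St : Stage P i} (hs : St.SelfEq) {j : I} (φ : j ⟶ i) : (St.change φ).SelfEq :=
  fun {T} v h => pullback.hom_ext
    ((St.change_act_fst φ v _ h (St.change_cond' φ v h)).trans
      ((St.act_congr rfl (by rw [Category.assoc, Category.assoc, St.fst_hom]) _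
        (Category.assoc _ _ _).symm).trans (hs _ _)))
    ((St.change φ).act_hom _ _ _)

/-- The stage of the triple fibre product. -/
noncomputable abbrev cuOb (D : I ⥤ Over S) (j : I) : Scheme.{u} :=
  pullback (pullback.fst (D.obj j).hom (D.obj j).hom ≫ (D.obj j).hom) (D.obj j).hom

/-- The transition maps of the triple fibre product. -/
noncomputable def cuMap (D : I ⥤ Over S) {j i : I} (φ : j ⟶ i) : cuOb D j ⟶ cuOb D i :=
  ((prodDiag (prodDiag D D) D).map φ).left

/-- The projections of the triple fibre product. -/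
noncomputable def cuπ (c : Cone D) (j : I) :
    pullback (pullback.fst c.pt.hom c.pt.hom ≫ c.pt.hom) c.pt.hom ⟶ cuOb D j :=
  ((prodCone (prodCone c c) c).π.app j).left

theorem cuMap_fst {j i : I} (φ : j ⟶ i) :
    cuMap D φ ≫ pullback.fst _ _ = pullback.fst _ _ ≫ sqMap D φ := prodDiag_map_fst (prodDiag D D) D φ

theorem cuMap_snd {j i : I} (φ : j ⟶ i) :
    cuMap D φ ≫ pullback.snd _ _ = pullback.snd _ _ ≫ (D.map φ).left := prodDiag_map_snd (prodDiag D D) D φ

theorem cuπ_fst (j : I) : cuπ c j ≫ pullback.fst _ _ = pullback.fst _ _ ≫ sqπ c j := prodCone_fst (prodCone c c) c j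

theorem cuπ_snd (j : I) : cuπ c j ≫ pullback.snd _ _ = pullback.snd _ _ ≫ (c.π.app j).left :=
  prodCone_snd (prodCone c c) c j

/-- Two maps over the triple fibre product agreeing in the limit agree at a stage. -/
theorem exists_fst_comp_eq_cu (hc : IsLimit ((Over.forget S).mapCone c)) {i : I} {Xi Yi : Scheme.{u}}
    (xi : Xi ⟶ cuOb D i) (yi : Yi ⟶ cuOb D i) [CompactSpace Xi] [LocallyOfFiniteType yi] (a b : Xi ⟶ Yi)
    (ha : a ≫ yi = xi) (hb : b ≫ yi = xi)
    (h : pullback.fst xi (cuπ c i) ≫ a = pullback.fst xi (cuπ c i) ≫ b) :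
    ∃ (j : I) (φ : j ⟶ i), pullback.fst xi (cuMap D φ) ≫ a = pullback.fst xi (cuMap D φ) ≫ b := by
  let D₂ := prodDiag D D
  haveI : ∀ j, IsAffine (D₂.obj j).left := fun j => isAffine_prodDiag (D := D) (E := D) j
  let DW := prodDiag D₂ D ⋙ Over.forget S
  haveI : ∀ j, IsAffine (DW.obj j) := fun j => isAffine_prodDiag (D := D₂) (E := D) j
  haveI : ∀ {i j} (φ : i ⟶ j), IsAffineHom (DW.map φ) := fun _ => isAffineHom_of_isAffine _
  haveI : @LocallyOfFiniteType Yi (DW.obj i) yi := (inferInstance : LocallyOfFiniteType yi)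
  exact exists_fst_comp_eq (D := DW) (isLimitProdCone (isLimitProdCone hc hc) hc)
    (IsPullback.of_hasPullback xi (cuπ c i)) a b ha hb h

set_option maxHeartbeats 1000000 in
theorem exists_compEq (hc : IsLimit ((Over.forget S).mapCone c)) (St : Stage P i) :
    ∃ (j : I) (φ : j ⟶ i), (St.change φ).CompEq := by
  haveI := St.etale; haveI := St.qc
  haveI : Smooth St.hom := inferInstance
  haveI : LocallyOfFinitePresentation St.hom := inferInstance
  haveI : LocallyOfFiniteType St.hom := inferInstance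
  let p := (D.obj i).hom
  haveI : IsAffineHom p := isAffineHom_of_isAffine _
  haveI : QuasiCompact (src p St.hom) := MorphismProperty.pullback_fst _ _ inferInstance
  haveI : QuasiCompact (last p St.hom) := MorphismProperty.pullback_snd _ _ inferInstance
  haveI : CompactSpace ↥(Triples p St.hom) := QuasiCompact.compactSpace_of_compactSpace (last p St.hom)
  have hT : (proj p St.hom ≫ src p St.hom) ≫ St.hom ≫ p = last p St.hom ≫ p := triples_cond
  have hP : (proj p St.hom ≫ src p St.hom) ≫ St.hom ≫ p = (proj p St.hom ≫ pt p St.hom) ≫ p := by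
    rw [Category.assoc, pairs_cond, ← Category.assoc]
  let a₁ := stageAct St.hom St.tr (proj p St.hom ≫ src p St.hom) (proj p St.hom ≫ pt p St.hom) hP
  have hP' : a₁ ≫ St.hom ≫ p = last p St.hom ≫ p := by
    rw [← Category.assoc, St.act_hom, ← hP, hT]
  let a := stageAct St.hom St.tr a₁ (last p St.hom) hP'
  let b := stageAct St.hom St.tr (proj p St.hom ≫ src p St.hom) (last p St.hom) hT
  let xi : Triples p St.hom ⟶ cuOb D i := pullback.lift
    (pullback.lift ((proj p St.hom ≫ src p St.hom) ≫ St.hom) (proj p St.hom ≫ pt p St.hom)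
      ((Category.assoc _ _ _).trans hP)) (last p St.hom)
    (by rw [pullback.lift_fst_assoc]; exact (Category.assoc _ _ _).trans hT)
  let w : cuOb D i ⟶ (D.obj i).left := pullback.snd _ _
  have hxw : xi ≫ w = last p St.hom := pullback.lift_snd _ _ _
  let yi := pullback.snd St.hom w
  haveI : LocallyOfFiniteType yi := MorphismProperty.pullback_snd _ _ inferInstance
  let a' := pullback.lift a xi ((St.act_hom _ _ _).trans hxw.symm)
  let b' := pullback.lift b xi ((St.act_hom _ _ _).trans hxw.symm)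
  have h : pullback.fst xi (cuπ c i) ≫ a' = pullback.fst xi (cuπ c i) ≫ b' := by
    let qX := pullback.fst xi (cuπ c i)
    let pX := pullback.snd xi (cuπ c i)
    let x₁ := pX ≫ pullback.fst _ _ ≫ pullback.fst c.pt.hom c.pt.hom
    let x₂ := pX ≫ pullback.fst _ _ ≫ pullback.snd c.pt.hom c.pt.hom
    let x₃ := pX ≫ pullback.snd _ c.pt.hom
    let vi := qX ≫ proj p St.hom ≫ src p St.hom
    have e₁ : x₁ ≫ (c.π.app i).left = vi ≫ St.hom := by
      simp only [x₁, Category.assoc, ← sqπ_fst]
      rw [← reassoc_of% (cuπ_fst (c := c) i), ← pullback.condition_assoc]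
      simp only [xi, vi, qX, pullback.lift_fst_assoc, pullback.lift_fst, Category.assoc]
    have e₂ : qX ≫ proj p St.hom ≫ pt p St.hom = x₂ ≫ (c.π.app i).left := by
      simp only [x₂, Category.assoc, ← sqπ_snd]
      rw [← reassoc_of% (cuπ_fst (c := c) i), ← pullback.condition_assoc]
      simp only [xi, qX, pullback.lift_fst_assoc, pullback.lift_snd, Category.assoc]
    have e₃ : qX ≫ last p St.hom = x₃ ≫ (c.π.app i).left := by
      simp only [x₃, Category.assoc, ← cuπ_snd]
      rw [← pullback.condition_assoc]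
      exact (congrArg (qX ≫ ·) hxw).symm
    let v := St.sq.lift vi x₁ e₁.symm
    have hvf : v ≫ f = x₁ := St.sq.lift_snd _ _ _
    have hv : v ≫ St.proj = vi := St.sq.lift_fst _ _ _
    have k₁₂ : x₁ ≫ c.pt.hom = x₂ ≫ c.pt.hom := by
      simp only [x₁, x₂, Category.assoc]
      exact congrArg (pX ≫ pullback.fst _ _ ≫ ·) pullback.condition
    have k₁₃ : x₁ ≫ c.pt.hom = x₃ ≫ c.pt.hom := by
      simp only [x₁, x₃, Category.assoc]
      exact congrArg (pX ≫ ·) pullback.condition
    have hh₂ : v ≫ f ≫ c.pt.hom = x₂ ≫ c.pt.hom := by rw [reassoc_of% hvf, k₁₂]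
    have hh₃ : v ≫ f ≫ c.pt.hom = x₃ ≫ c.pt.hom := by rw [reassoc_of% hvf, k₁₃]
    have hh₂₃ : P.act v x₂ hh₂ ≫ f ≫ c.pt.hom = x₃ ≫ c.pt.hom := by rw [P.hom_p, ← k₁₂, k₁₃]
    have tp : ∀ {T : Scheme.{u}} {v : T ⟶ V} {x : T ⟶ c.pt.left}, v ≫ f ≫ c.pt.hom = x ≫ c.pt.hom →
        (v ≫ St.proj) ≫ St.hom ≫ p = (x ≫ (c.π.app i).left) ≫ p := by
      intro T v x hvx
      simp only [p, Category.assoc, Over.w (c.π.app i), St.sq.w_assoc]
      exact hvx
    apply pullback.hom_ext
    · simp only [a', b', Category.assoc, pullback.lift_fst]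
      calc qX ≫ a = stageAct St.hom St.tr (P.act v x₂ hh₂ ≫ St.proj) (x₃ ≫ (c.π.app i).left) (tp hh₂₃) := by
              refine stageAct_natural _ _ _ _ _ _ _ ?_ e₃
              rw [St.act_proj v x₂ hh₂ (tp hh₂)]
              exact stageAct_natural _ _ _ _ _ _ _ hv.symm e₂
        _ = P.act (P.act v x₂ hh₂) x₃ hh₂₃ ≫ St.proj := (St.act_proj _ _ hh₂₃ (tp hh₂₃)).symm
        _ = P.act v x₃ hh₃ ≫ St.proj := by rw [P.comp v x₂ x₃ hh₂ hh₂₃ hh₃]
        _ = qX ≫ b := by
              rw [St.act_proj v x₃ hh₃ (tp hh₃)]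
              exact (stageAct_natural _ _ _ _ _ _ _ hv.symm e₃).symm
    · simp only [a', b', Category.assoc, pullback.lift_snd]
  obtain ⟨j, φ, hj⟩ := exists_fst_comp_eq_cu hc xi yi a' b' (pullback.lift_snd _ _ _) (pullback.lift_snd _ _ _) h
  refine ⟨j, φ, fun {T} v x y hx hy hxy => pullback.hom_ext ?_
    (((St.change φ).act_hom _ _ _).trans ((St.change φ).act_hom _ _ _).symm)⟩
  let v' := v ≫ St.fst φ
  let π := (D.map φ).left
  have hx' : v' ≫ St.hom ≫ p = (x ≫ π) ≫ p := St.change_cond' φ v hx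
  have hxy' : v' ≫ St.hom ≫ p = (y ≫ π) ≫ p := St.change_cond' φ v hxy
  let τ : T ⟶ Triples p St.hom := pullback.lift (pullback.lift v' (x ≫ π) hx') (y ≫ π)
    ((pullback.lift_fst_assoc _ _ _ _).trans hxy')
  have t₁ : τ ≫ proj p St.hom ≫ src p St.hom = v' := by
    simp only [τ, pullback.lift_fst_assoc, pullback.lift_fst]
  have t₂ : τ ≫ proj p St.hom ≫ pt p St.hom = x ≫ π := by
    simp only [τ, pullback.lift_fst_assoc, pullback.lift_snd]
  have t₃ : τ ≫ last p St.hom = y ≫ π := pullback.lift_snd _ _ _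
  have hvj : v' ≫ St.hom = (v ≫ (St.change φ).hom) ≫ π := by
    simp only [v', π, Category.assoc, St.fst_hom]
  let rj : T ⟶ cuOb D j := pullback.lift
    (pullback.lift (v ≫ (St.change φ).hom) x ((Category.assoc _ _ _).trans hx)) y
    (by rw [pullback.lift_fst_assoc]; exact (Category.assoc _ _ _).trans hxy)
  have hr : τ ≫ xi = rj ≫ cuMap D φ := by
    apply pullback.hom_ext
    · simp only [xi, rj, Category.assoc, cuMap_fst, pullback.lift_fst, pullback.lift_fst_assoc]
      apply pullback.hom_ext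
      · simp only [Category.assoc, sqMap_fst, pullback.lift_fst, pullback.lift_fst_assoc]
        rw [reassoc_of% t₁, hvj, Category.assoc]
      · simp only [Category.assoc, sqMap_snd, pullback.lift_snd, pullback.lift_snd_assoc]
        exact t₂
    · simp only [xi, rj, Category.assoc, cuMap_snd, pullback.lift_snd, pullback.lift_snd_assoc]
      exact t₃
  have hab : τ ≫ a = τ ≫ b := by
    have h2 := congrArg (fun m => pullback.lift τ rj hr ≫ m ≫ pullback.fst St.hom w) hj
    simp only [a', b', Category.assoc, pullback.lift_fst, pullback.lift_fst_assoc] at h2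
    exact h2
  calc _ = stageAct St.hom St.tr (stageAct (St.change φ).hom (St.change φ).tr v x hx ≫ St.fst φ)
            (y ≫ π) (St.change_cond' φ _ hy) := St.change_act_fst φ _ y hy (St.change_cond' φ _ hy)
    _ = τ ≫ a := by
          refine (stageAct_natural _ _ _ _ _ _ _ ?_ t₃).symm
          rw [St.change_act_fst φ v x hx hx']
          exact stageAct_natural _ _ _ _ _ _ _ t₁ t₂
    _ = τ ≫ b := hab
    _ = stageAct St.hom St.tr v' (y ≫ π) hxy' := stageAct_natural _ _ _ _ _ _ _ t₁ t₃
    _ = _ := (St.change_act_fst φ v y hxy hxy').symm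

/-- The datum carried by a stage satisfying the two equations. -/
noncomputable def Stage.pre (St : Stage P i) (hs : St.SelfEq) (hcomp : St.CompEq) :
    Pre (D.obj i).hom St.hom where
  act v x h := stageAct St.hom St.tr v x h
  hom v x h := St.act_hom v x h
  natural g v x h h' := (stageAct_natural _ _ g v x h h' rfl rfl).symm
  self v h := hs v h
  comp v x y h h' h'' := hcomp v x y h h' h''

/-- A datum over a limit of affine sources comes from a datum at a stage. -/
theorem exists_stage_pre (hc : IsLimit ((Over.forget S).mapCone c)) [Etale f] [IsSeparated f] [QuasiCompact f]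
    (P : Pre c.pt.hom f) :
    ∃ (i : I) (Vi : Scheme.{u}) (fi : Vi ⟶ (D.obj i).left) (Q : Pre (D.obj i).hom fi) (qV : V ⟶ Vi),
      Etale fi ∧ IsSeparated fi ∧ QuasiCompact fi ∧ IsPullback qV f fi (c.π.app i).left ∧
        ∀ {T : Scheme.{u}} (v : T ⟶ V) (x : T ⟶ c.pt.left) (h : v ≫ f ≫ c.pt.hom = x ≫ c.pt.hom)
          (h' : (v ≫ qV) ≫ fi ≫ (D.obj i).hom = (x ≫ (c.π.app i).left) ≫ (D.obj i).hom),
          P.act v x h ≫ qV = Q.act (v ≫ qV) (x ≫ (c.π.app i).left) h' := by
  obtain ⟨i, Vi, fi, qV, t, he, hs, hq, sq, ht, hact⟩ := exists_stage_act hc P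
  let St : Stage P i := ⟨Vi, fi, qV, t, he, hs, hq, sq, ht, @hact⟩
  obtain ⟨j, φ, hj⟩ := exists_selfEq hc St
  obtain ⟨k, ψ, hk⟩ := exists_compEq hc (St.change φ)
  let St' := (St.change φ).change ψ
  exact ⟨k, _, St'.hom, St'.pre (Stage.selfEq_change hj ψ) hk, St'.proj, St'.etale, St'.sep, St'.qc, St'.sq,
    fun v x h h' => St'.act_proj v x h h'⟩

end Groth.L23.SepEt
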