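import Groth.Agent.L23.SepEt.Fp
import Groth.Agent.L23.SepEt.DatumEquations

/-!
# Quasi-compact separated etale data along universally subtrusive morphisms of affine schemes
-/

set_option autoImplicit false
set_option linter.style.haveILetI false
set_option linter.unusedSectionVars false
set_option backward.isDefEq.respectTransparency.types false

universe u

open CategoryTheory CategoryTheory.Limits AlgebraicGeometry Groth.L20.SchDesc Groth.L27.EtGlue

namespace Groth.L23.SepEt

variable {X S V : Scheme.{u}} {p : X ⟶ S} {f : V ⟶ X}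

/-- Effectivity comes from a compatible effective datum of which ours is a base change. -/
theorem etEffective_of_datum_map {X₀ V₀ : Scheme.{u}} {p₀ : X₀ ⟶ S} {f₀ : V₀ ⟶ X₀} {π : X ⟶ X₀} {qV : V ⟶ V₀}
    (hπ : π ≫ p₀ = p) (sq : IsPullback qV f f₀ π) (P : Pre p f) (Q : Pre p₀ f₀)
    (hact : ∀ {T : Scheme.{u}} (v : T ⟶ V) (x : T ⟶ X) (h : v ≫ f ≫ p = x ≫ p)
      (h' : (v ≫ qV) ≫ f₀ ≫ p₀ = (x ≫ π) ≫ p₀), P.act v x h ≫ qV = Q.act (v ≫ qV) (x ≫ π) h')
    (hQ : EtEffective Q) : EtEffective P := by
  obtain ⟨d⟩ := hQ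
  subst hπ
  refine ⟨⟨⟨d.U, d.a, qV ≫ d.q, (sq.paste_horiz d.isPullback.flip).flip, fun v x h => ?_⟩, d.etale⟩⟩
  have h' : (v ≫ qV) ≫ f₀ ≫ p₀ = (x ≫ π) ≫ p₀ := by
    rw [Category.assoc, sq.w_assoc, Category.assoc]; exact h
  rw [← Category.assoc, hact v x h h', d.comm, Category.assoc]

/-- Quasi-compact separated etale data along a universally subtrusive morphism of affine schemes are effective. -/
theorem etEffective_affine [IsAffine S] [IsAffine X] (hp : Subtr.UnivSSubtrusive p) [Etale f] [IsSeparated f]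
    [QuasiCompact f] (P : Pre p f) : EtEffective P := by
  obtain ⟨J, _, _, D, c, hc, e, hA, hlfp⟩ := exists_fp_system p
  haveI := hA
  let c' : Cone D := c.extend e.inv
  have hc' : IsLimit ((Over.forget S).mapCone c') :=
    IsLimit.ofIsoLimit hc (Cone.ext ((Over.forget S).mapIso e) fun j => by
      simp [c', ← Over.comp_left_assoc, ← Over.comp_left])
  obtain ⟨i, Vi, fi, Q, qV, he, hs, -, sq, hact⟩ := exists_stage_pre (c := c') hc' P
  haveI := he; haveI := hs; haveI := hlfp i
  haveI : IsAffineHom (D.obj i).hom := isAffineHom_of_isAffine _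
  refine etEffective_of_datum_map (Over.w (c'.π.app i)) sq P Q hact (etEffective_of_univSSubtrusive_fp ?_ Q)
  exact Groth.L09.SubtrLimit.univ_of_comp (j := (c'.π.app i).left)
    (by rw [Over.w (c'.π.app i)]; exact hp)

end Groth.L23.SepEt
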