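import Groth.Agent.L20.SchDesc.Chart
import Groth.Agent.L27.EtGlue.Main
import Groth.Agent.L27.TopInv.Sections
import Groth.Agent.L27.EtGlue.Point

/-!
# Etale effectivity is checked after a refinement

If `h : Y ⟶ X` is such that `h ≫ p` is universally submersive, an etale descent datum relative to `p` is
effective as soon as its pullback along `h` is effective in etale schemes.
-/

set_option autoImplicit false
set_option linter.style.haveILetI false
set_option linter.unusedSectionVars false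
set_option backward.isDefEq.respectTransparency.types false

universe u

open CategoryTheory Limits AlgebraicGeometry Groth.L20.SchDesc Groth.L27.EtGlue

namespace Groth.L23.SepEt

variable {X S V : Scheme.{u}} {p : X ⟶ S} {f : V ⟶ X}

theorem etEffective_of_chart [Etale f] (P : Pre p f) {Y : Scheme.{u}} (h : Y ⟶ X)
    (hu : SGA1.UnivSubmersive (h ≫ p)) (hE : EtEffective (basePull P h)) : EtEffective P := by
  obtain ⟨d⟩ := hE
  haveI := d.etale
  have hbc : SGA1.UnivSubmersive.{u}.IsStableUnderBaseChange :=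
    MorphismProperty.universally_isStableUnderBaseChange _
  haveI : Surjective (h ≫ p) := surjective_of_univSubmersive hu
  let pr := pullback.fst f h
  let π : pullback (f ≫ p) (h ≫ p) ⟶ V := pullback.fst _ _
  let y : pullback (f ≫ p) (h ≫ p) ⟶ Y := pullback.snd _ _
  have hπy : π ≫ f ≫ p = (y ≫ h) ≫ p := pullback.condition.trans (Category.assoc _ _ _).symm
  let ρ : pullback (f ≫ p) (h ≫ p) ⟶ pullback f h :=
    pullback.lift (P.act π (y ≫ h) hπy) y (P.hom _ _ _)
  have hρ₁ : ρ ≫ pr = P.act π (y ≫ h) hπy := pullback.lift_fst _ _ _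
  have hρ₂ : ρ ≫ pullback.snd f h = y := pullback.lift_snd _ _ _
  have hρ₁' : ∀ {T : Scheme.{u}} (g : T ⟶ pullback (f ≫ p) (h ≫ p))
      (e : (g ≫ π) ≫ f ≫ p = (g ≫ y ≫ h) ≫ p),
      (g ≫ ρ) ≫ pr = P.act (g ≫ π) (g ≫ y ≫ h) e := fun {T} g e => by
    rw [Category.assoc, hρ₁]
    exact P.natural' g π (y ≫ h) hπy e rfl rfl
  have hρ₂' : ∀ {T : Scheme.{u}} (g : T ⟶ pullback (f ≫ p) (h ≫ p)),
      (g ≫ ρ) ≫ pullback.snd f h ≫ h = g ≫ y ≫ h := fun {T} g => by
    rw [Category.assoc, reassoc_of% hρ₂]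
  have hcond : ∀ {T : Scheme.{u}} (g : T ⟶ pullback (f ≫ p) (h ≫ p)),
      (g ≫ π) ≫ f ≫ p = (g ≫ y ≫ h) ≫ p := fun {T} g => by
    rw [Category.assoc, hπy, ← Category.assoc]
  have hinv : ∀ {T : Scheme.{u}} (g₁ g₂ : T ⟶ pullback (f ≫ p) (h ≫ p)), g₁ ≫ π = g₂ ≫ π →
      (g₁ ≫ ρ) ≫ d.q = (g₂ ≫ ρ) ≫ d.q := by
    intro T g₁ g₂ e
    refine basePull_q_eq P h d.toDescent _ _ ?_ ?_
    · rw [hρ₁' g₁ (hcond g₁), hρ₂', P.hom_p, ← hcond g₁, ← hcond g₂, e]
    · rw [hρ₁' g₂ (hcond g₂)]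
      refine (P.act_congr (hρ₁' g₁ (hcond g₁)) (hρ₂' g₂) _ ?_).trans ?_
      · rw [P.hom_p, ← hcond g₁, ← hcond g₂, e]
      · refine (P.comp _ _ _ _ _ ?_).trans (P.act_congr e rfl _ _)
        rw [e, hcond g₂]
  have hρa : (ρ ≫ d.q) ≫ d.a = π ≫ f ≫ p := by
    rw [Category.assoc, ← d.isPullback.w, reassoc_of% hρ₂]
    exact pullback.condition.symm
  obtain ⟨q, ⟨hsq, hq⟩, -⟩ := Groth.L27.TopInv.existsUnique_hom (h ≫ p) hu (f ≫ p) d.a (ρ ≫ d.q) hρa (by
    rw [← Category.assoc, ← Category.assoc]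
    exact hinv _ _ pullback.condition)
  have hq' : π ≫ q = ρ ≫ d.q := hq.symm
  have hprq : pr ≫ q = d.q := by
    let l : pullback f h ⟶ pullback (f ≫ p) (h ≫ p) := pullback.lift pr (pullback.snd f h) (by
      simp only [pr, pullback.condition_assoc])
    have hl₁ : l ≫ π = pr := pullback.lift_fst _ _ _
    have hl₂ : l ≫ y = pullback.snd f h := pullback.lift_snd _ _ _
    have hlρ : l ≫ ρ = 𝟙 _ := by
      apply pullback.hom_ext
      · rw [hρ₁' l (hcond l), Category.id_comp]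
        refine (P.act_congr hl₁ (x' := pr ≫ f) ?_ _ (Category.assoc _ _ _).symm).trans (P.self _ _)
        rw [reassoc_of% hl₂]
        exact pullback.condition.symm
      · rw [Category.assoc, hρ₂, hl₂, Category.id_comp]
    rw [← hl₁, Category.assoc, hq', reassoc_of% hlρ]
  have hcomm : ∀ {T : Scheme.{u}} (v : T ⟶ V) (x : T ⟶ X) (e : v ≫ f ≫ p = x ≫ p),
      P.act v x e ≫ q = v ≫ q := by
    intro T v x e
    let r := pullback.fst (v ≫ f ≫ p) (h ≫ p)
    let z := pullback.snd (v ≫ f ≫ p) (h ≫ p)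
    haveI : Surjective r := MorphismProperty.pullback_fst _ _ inferInstance
    have h2 : (r ≫ v) ≫ f ≫ p = z ≫ h ≫ p := by rw [Category.assoc]; exact pullback.condition
    have h1 : (r ≫ P.act v x e) ≫ f ≫ p = z ≫ h ≫ p := by
      exact (Category.assoc _ _ _).trans ((congrArg (r ≫ ·) ((P.hom_p v x e).trans e.symm)).trans
        ((Category.assoc _ _ _).symm.trans h2))
    let l₁ : _ ⟶ pullback (f ≫ p) (h ≫ p) := pullback.lift (r ≫ P.act v x e) z h1
    let l₂ : _ ⟶ pullback (f ≫ p) (h ≫ p) := pullback.lift (r ≫ v) z h2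
    have a₁ : l₁ ≫ π = r ≫ P.act v x e := pullback.lift_fst _ _ _
    have b₁ : l₁ ≫ y = z := pullback.lift_snd _ _ _
    have a₂ : l₂ ≫ π = r ≫ v := pullback.lift_fst _ _ _
    have b₂ : l₂ ≫ y = z := pullback.lift_snd _ _ _
    have hll : l₁ ≫ ρ = l₂ ≫ ρ := by
      apply pullback.hom_ext
      · rw [hρ₁' l₁ (hcond l₁), hρ₁' l₂ (hcond l₂)]
        have e' : (r ≫ v) ≫ f ≫ p = (r ≫ x) ≫ p :=
          (Category.assoc _ _ _).trans ((congrArg (r ≫ ·) e).trans (Category.assoc _ _ _).symm)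
        refine (P.act_congr (a₁.trans (P.natural' r v x e e' rfl rfl))
          (x' := l₂ ≫ y ≫ h) (by rw [reassoc_of% b₁, reassoc_of% b₂]) _ ?_).trans
            ((P.comp _ _ _ _ _ ?_).trans (P.act_congr a₂.symm rfl _ _))
        · rw [P.hom_p, ← e', ← a₂, hcond l₂]
        · rw [← a₂, hcond l₂]
      · rw [Category.assoc, Category.assoc, hρ₂, b₁, b₂]
    refine Groth.L27.TopInv.eq_of_surjective d.a r ?_ ?_
    · rw [Category.assoc, Category.assoc, hsq, P.hom_p, ← e]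
    · rw [← reassoc_of% a₁, hq', reassoc_of% hll, ← hq', reassoc_of% a₂]
  let κ : V ⟶ pullback p d.a := pullback.lift f q hsq.symm
  have hκf : κ ≫ pullback.fst p d.a = f := pullback.lift_fst _ _ _
  have hκq : κ ≫ pullback.snd p d.a = q := pullback.lift_snd _ _ _
  haveI : Etale (pullback.fst p d.a) := MorphismProperty.pullback_fst _ _ inferInstance
  haveI : Etale (κ ≫ pullback.fst p d.a) := by rw [hκf]; infer_instance
  haveI : Etale κ := Etale.of_comp κ (pullback.fst p d.a)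
  haveI : Mono κ := by
    refine ⟨fun {T} v₁ v₂ e => ?_⟩
    have ef : v₁ ≫ f = v₂ ≫ f := by
      simpa only [Category.assoc, hκf] using congrArg (· ≫ pullback.fst p d.a) e
    have eq' : v₁ ≫ q = v₂ ≫ q := by
      simpa only [Category.assoc, hκq] using congrArg (· ≫ pullback.snd p d.a) e
    let r := pullback.fst (v₁ ≫ f ≫ p) (h ≫ p)
    let z := pullback.snd (v₁ ≫ f ≫ p) (h ≫ p)
    haveI : Surjective r := MorphismProperty.pullback_fst _ _ inferInstance
    have h1 : (r ≫ v₁) ≫ f ≫ p = z ≫ h ≫ p := by rw [Category.assoc]; exact pullback.condition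
    have h2 : (r ≫ v₂) ≫ f ≫ p = z ≫ h ≫ p := by
      rw [← h1]; simp only [Category.assoc, reassoc_of% ef]
    let l₁ : _ ⟶ pullback (f ≫ p) (h ≫ p) := pullback.lift (r ≫ v₁) z h1
    let l₂ : _ ⟶ pullback (f ≫ p) (h ≫ p) := pullback.lift (r ≫ v₂) z h2
    have a₁ : l₁ ≫ π = r ≫ v₁ := pullback.lift_fst _ _ _
    have b₁ : l₁ ≫ y = z := pullback.lift_snd _ _ _
    have a₂ : l₂ ≫ π = r ≫ v₂ := pullback.lift_fst _ _ _
    have b₂ : l₂ ≫ y = z := pullback.lift_snd _ _ _
    have hll : l₁ ≫ ρ = l₂ ≫ ρ := by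
      apply d.isPullback.hom_ext
      · rw [Category.assoc, Category.assoc, hρ₂, b₁, b₂]
      · rw [Category.assoc, Category.assoc, ← hq', reassoc_of% a₁, reassoc_of% a₂, eq']
    have hact := congrArg (· ≫ pr) hll
    rw [hρ₁' l₁ (hcond l₁), hρ₁' l₂ (hcond l₂)] at hact
    have back : ∀ (l : pullback (v₁ ≫ f ≫ p) (h ≫ p) ⟶ pullback (f ≫ p) (h ≫ p))
        (c : P.act (l ≫ π) (l ≫ y ≫ h) (hcond l) ≫ f ≫ p = ((l ≫ π) ≫ f) ≫ p),
        P.act (P.act (l ≫ π) (l ≫ y ≫ h) (hcond l)) ((l ≫ π) ≫ f) c = l ≫ π := fun l c =>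
      (P.comp _ _ _ _ _ (Category.assoc _ _ _).symm).trans (P.self _ _)
    have c₁ : ∀ l : pullback (v₁ ≫ f ≫ p) (h ≫ p) ⟶ pullback (f ≫ p) (h ≫ p),
        P.act (l ≫ π) (l ≫ y ≫ h) (hcond l) ≫ f ≫ p = ((l ≫ π) ≫ f) ≫ p := fun l => by
      rw [P.hom_p, ← hcond l, Category.assoc (l ≫ π)]
    refine Groth.L27.TopInv.eq_of_surjective f r ef ?_
    rw [← a₁, ← a₂, ← back l₁ (c₁ l₁), ← back l₂ (c₁ l₂)]
    refine P.act_congr hact ?_ _ _
    rw [a₁, a₂, Category.assoc, Category.assoc, ef]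
  haveI : IsOpenImmersion κ := IsOpenImmersion.of_flat_of_mono κ
  haveI : Surjective κ := by
    let G := pullback.fst (pullback.fst p d.a ≫ p) (h ≫ p)
    let yy := pullback.snd (pullback.fst p d.a ≫ p) (h ≫ p)
    haveI : Surjective G := MorphismProperty.pullback_fst _ _ inferInstance
    have hGc : G ≫ pullback.fst p d.a ≫ p = yy ≫ h ≫ p := pullback.condition
    have hωc : yy ≫ h ≫ p = (G ≫ pullback.snd p d.a) ≫ d.a := by
      exact hGc.symm.trans ((congrArg (G ≫ ·) pullback.condition).trans (Category.assoc _ _ _).symm)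
    let ω := d.isPullback.lift yy (G ≫ pullback.snd p d.a) hωc
    have hω₁ : ω ≫ pullback.snd f h = yy := d.isPullback.lift_fst _ _ _
    have hω₂ : ω ≫ d.q = G ≫ pullback.snd p d.a := d.isPullback.lift_snd _ _ _
    have hψc : (ω ≫ pr) ≫ f ≫ p = (G ≫ pullback.fst p d.a) ≫ p := by
      simp only [pr, Category.assoc, pullback.condition_assoc]
      rw [reassoc_of% hω₁, hGc]
    let ψ := P.act (ω ≫ pr) (G ≫ pullback.fst p d.a) hψc
    haveI : Surjective (ψ ≫ κ) := by
      have : ψ ≫ κ = G := by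
        apply pullback.hom_ext
        · rw [Category.assoc, hκf]; exact P.hom _ _ _
        · rw [Category.assoc, hκq, hcomm, Category.assoc, hprq, hω₂]
      rw [this]; infer_instance
    exact Surjective.of_comp ψ κ
  haveI : IsIso κ := (isIso_iff_isOpenImmersion_and_surjective _).2 ⟨inferInstance, inferInstance⟩
  exact ⟨⟨⟨d.U, d.a, q, IsPullback.of_iso (IsPullback.of_hasPullback p d.a) (asIso κ).symm (Iso.refl _)
    (Iso.refl _) (Iso.refl _) ((Category.comp_id _).trans ((IsIso.eq_inv_comp κ).2 hκf))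
    ((Category.comp_id _).trans ((IsIso.eq_inv_comp κ).2 hκq)) (by simp) (by simp), hcomm⟩, d.etale⟩⟩

end Groth.L23.SepEt
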