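import Groth.Agent.L23.SepEt.ProdCone
import Groth.Agent.L20.SchDesc.Hull
import Groth.Agent.L05.DescendFP
import Groth.Agent.L19.Limit.Hom
import Groth.Agent.L19.Limit.Smooth
import Groth.Agent.L02.ConsP.PairDescends
import Mathlib.AlgebraicGeometry.Morphisms.Etale

/-!
# A descent datum of finite presentation over a limit of sources comes from a stage
-/

set_option autoImplicit false
set_option linter.style.haveILetI false
set_option linter.unusedSectionVars false
set_option backward.isDefEq.respectTransparency.types false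

universe u

open CategoryTheory CategoryTheory.Limits AlgebraicGeometry Groth.L20.SchDesc Groth.L19.Limit

namespace Groth.L23.SepEt

variable {S : Scheme.{u}} {I : Type u} [SmallCategory I] [IsCofiltered I] {D : I ⥤ Over S}
  [IsAffine S] [∀ j, IsAffine (D.obj j).left] {c : Cone D}

/-- A separated quasi-compact etale scheme over the limit comes from a stage. -/
theorem exists_stage_scheme (hc : IsLimit ((Over.forget S).mapCone c)) {V : Scheme.{u}} (f : V ⟶ c.pt.left)
    [Etale f] [IsSeparated f] [QuasiCompact f] :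
    ∃ (i : I) (Vi : Scheme.{u}) (fi : Vi ⟶ (D.obj i).left) (qV : V ⟶ Vi),
      Etale fi ∧ IsSeparated fi ∧ QuasiCompact fi ∧ IsPullback qV f fi (c.π.app i).left := by
  let DX := D ⋙ Over.forget S
  let cX := (Over.forget S).mapCone c
  haveI : ∀ j, IsAffine (DX.obj j) := fun j => inferInstanceAs (IsAffine (D.obj j).left)
  haveI : ∀ {i j} (φ : i ⟶ j), IsAffineHom (DX.map φ) := fun _ => isAffineHom_of_isAffine _
  have hc' : IsLimit cX := hc
  haveI hsm : Smooth f := inferInstance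
  haveI hlfp : LocallyOfFinitePresentation f := inferInstance
  haveI hqs : QuasiSeparated f := inferInstance
  haveI : @LocallyOfFinitePresentation V cX.pt f := hlfp
  haveI : @QuasiCompact V cX.pt f := inferInstanceAs (QuasiCompact f)
  haveI : @QuasiSeparated V cX.pt f := hqs
  obtain ⟨i₁, V₁, f₁, q₁, h1, h2, h3, sq⟩ := Groth.L05.DescendFP.exists_stage hc' (X := V) f
  obtain ⟨j₁, φ₁, hj₁⟩ := descends_etale hc' f₁ ⟨⟨h2, h3⟩, h1⟩
    ((pb_iff_of_isPullback sq).mp (inferInstance : Etale f))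
  obtain ⟨j₂, φ₂, hj₂⟩ := L02.ConsP.descends_isSeparated' hc' f₁ ⟨⟨h2, h3⟩, h1⟩
    ((pb_iff_of_isPullback sq).mp (inferInstance : IsSeparated f))
  obtain ⟨i, u, v, -⟩ := IsCofilteredOrEmpty.cone_objs j₁ j₂
  obtain ⟨i', w, hw⟩ : ∃ (i' : I) (w : i' ⟶ i), w ≫ u ≫ φ₁ = w ≫ v ≫ φ₂ :=
    ⟨_, IsCofiltered.eqHom _ _, IsCofiltered.eq_condition _ _⟩
  let ψ : i' ⟶ i₁ := w ≫ u ≫ φ₁
  let f' := pullback.snd f₁ (DX.map ψ)
  let qV : V ⟶ pullback f₁ (DX.map ψ) := pullback.lift q₁ (f ≫ cX.π.app i')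
    (sq.w.trans ((congrArg (f ≫ ·) (cX.w ψ).symm).trans (Category.assoc _ _ _).symm))
  have hq₁ : qV ≫ pullback.fst f₁ (DX.map ψ) = q₁ := pullback.lift_fst _ _ _
  have hψ : cX.π.app i' ≫ DX.map ψ = cX.π.app i₁ := cX.w ψ
  have sq' : IsPullback qV f f' (cX.π.app i') :=
    IsPullback.of_right (hq₁.symm ▸ hψ.symm ▸ sq) (pullback.lift_snd _ _ _)
      (IsPullback.of_hasPullback f₁ (DX.map ψ))
  have he : Pb @Etale f₁ (DX.map ψ) := by
    show Pb @Etale f₁ (DX.map (w ≫ u ≫ φ₁))
    rw [← Category.assoc, Functor.map_comp]; exact pb_comp _ hj₁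
  have hs : Pb @IsSeparated f₁ (DX.map ψ) := by
    show Pb @IsSeparated f₁ (DX.map (w ≫ u ≫ φ₁))
    rw [hw, ← Category.assoc, Functor.map_comp]; exact pb_comp _ hj₂
  exact ⟨i', _, f', qV, (pb_iff_of_isPullback (IsPullback.of_hasPullback f₁ (DX.map ψ))).mpr he,
    (pb_iff_of_isPullback (IsPullback.of_hasPullback f₁ (DX.map ψ))).mpr hs,
    MorphismProperty.pullback_snd _ _ h2, sq'⟩

/-- The map translating a point of `Vi` along the stage morphisms. -/
noncomputable def stageAct {i : I} {Vi : Scheme.{u}} (fi : Vi ⟶ (D.obj i).left)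
    (t : pullback (fi ≫ (D.obj i).hom) (D.obj i).hom ⟶ Vi) {T : Scheme.{u}} (v : T ⟶ Vi)
    (x : T ⟶ (D.obj i).left) (h : v ≫ fi ≫ (D.obj i).hom = x ≫ (D.obj i).hom) : T ⟶ Vi :=
  pullback.lift v x h ≫ t

theorem stageAct_natural {i : I} {Vi : Scheme.{u}} (fi : Vi ⟶ (D.obj i).left)
    (t : pullback (fi ≫ (D.obj i).hom) (D.obj i).hom ⟶ Vi) {T T' : Scheme.{u}} (r : T' ⟶ T) (v : T ⟶ Vi)
    (x : T ⟶ (D.obj i).left) (h : v ≫ fi ≫ (D.obj i).hom = x ≫ (D.obj i).hom) {v' : T' ⟶ Vi}
    {x' : T' ⟶ (D.obj i).left} (h' : v' ≫ fi ≫ (D.obj i).hom = x' ≫ (D.obj i).hom) (hv : r ≫ v = v')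
    (hx : r ≫ x = x') : r ≫ stageAct fi t v x h = stageAct fi t v' x' h' := by
  subst hv hx
  rw [stageAct, stageAct, ← Category.assoc]
  congr 1
  apply pullback.hom_ext <;> simp only [Category.assoc, pullback.lift_fst, pullback.lift_snd]

/-- The stage of the self fibre product. -/
noncomputable abbrev sqOb (D : I ⥤ Over S) (j : I) : Scheme.{u} := pullback (D.obj j).hom (D.obj j).hom

/-- The transition maps of the self fibre product. -/
noncomputable def sqMap (D : I ⥤ Over S) {j i : I} (φ : j ⟶ i) : sqOb D j ⟶ sqOb D i := ((prodDiag D D).map φ).left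

/-- The projections of the self fibre product. -/
noncomputable def sqπ (c : Cone D) (j : I) : pullback c.pt.hom c.pt.hom ⟶ sqOb D j :=
  ((prodCone c c).π.app j).left

theorem sqMap_fst {j i : I} (φ : j ⟶ i) :
    sqMap D φ ≫ pullback.fst _ _ = pullback.fst _ _ ≫ (D.map φ).left := prodDiag_map_fst D D φ

theorem sqMap_snd {j i : I} (φ : j ⟶ i) :
    sqMap D φ ≫ pullback.snd _ _ = pullback.snd _ _ ≫ (D.map φ).left := prodDiag_map_snd D D φ

theorem sqπ_fst (j : I) : sqπ c j ≫ pullback.fst _ _ = pullback.fst _ _ ≫ (c.π.app j).left := prodCone_fst c c j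

theorem sqπ_snd (j : I) : sqπ c j ≫ pullback.snd _ _ = pullback.snd _ _ ≫ (c.π.app j).left := prodCone_snd c c j

theorem sqπ_w {j i : I} (φ : j ⟶ i) : sqπ c j ≫ sqMap D φ = sqπ c i :=
  congrArg CommaMorphism.left ((prodCone c c).w φ)

/-- A morphism between base changes to the limit of the self fibre products comes from a stage. -/
theorem exists_hom_stage_sq (hc : IsLimit ((Over.forget S).mapCone c)) {i : I} {Xi Yi : Scheme.{u}}
    (xi : Xi ⟶ sqOb D i) (yi : Yi ⟶ sqOb D i) [CompactSpace Xi] [QuasiSeparatedSpace Xi]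
    [LocallyOfFinitePresentation yi] (F : pullback xi (sqπ c i) ⟶ pullback yi (sqπ c i))
    (hF : F ≫ pullback.snd yi (sqπ c i) = pullback.snd xi (sqπ c i)) :
    ∃ (j : I) (φ : j ⟶ i) (fj : pullback xi (sqMap D φ) ⟶ pullback yi (sqMap D φ))
      (sX : pullback xi (sqπ c i) ⟶ pullback xi (sqMap D φ))
      (sY : pullback yi (sqπ c i) ⟶ pullback yi (sqMap D φ)),
      fj ≫ pullback.snd yi (sqMap D φ) = pullback.snd xi (sqMap D φ) ∧
      sX ≫ pullback.fst xi (sqMap D φ) = pullback.fst xi (sqπ c i) ∧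
      sX ≫ pullback.snd xi (sqMap D φ) = pullback.snd xi (sqπ c i) ≫ sqπ c j ∧
      sY ≫ pullback.fst yi (sqMap D φ) = pullback.fst yi (sqπ c i) ∧
      sY ≫ pullback.snd yi (sqMap D φ) = pullback.snd yi (sqπ c i) ≫ sqπ c j ∧
      sX ≫ fj = F ≫ sY := by
  haveI : ∀ j, IsAffine ((prodDiag D D ⋙ Over.forget S).obj j) := fun j => isAffine_prodDiag (D := D) (E := D) j
  haveI : ∀ {i j} (φ : i ⟶ j), IsAffineHom ((prodDiag D D ⋙ Over.forget S).map φ) := fun _ =>
    isAffineHom_of_isAffine _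
  haveI : @LocallyOfFinitePresentation Yi ((prodDiag D D ⋙ Over.forget S).obj i) yi :=
    (inferInstance : LocallyOfFinitePresentation yi)
  exact exists_hom_stage (D := prodDiag D D ⋙ Over.forget S) (isLimitProdCone hc hc)
    (IsPullback.of_hasPullback xi (sqπ c i)) (IsPullback.of_hasPullback yi (sqπ c i)) F hF

set_option maxHeartbeats 1000000 in
/-- The translation map of a datum comes from a stage. -/
theorem exists_stage_act (hc : IsLimit ((Over.forget S).mapCone c)) {V : Scheme.{u}} {f : V ⟶ c.pt.left}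
    [Etale f] [IsSeparated f] [QuasiCompact f] (P : Pre c.pt.hom f) :
    ∃ (i : I) (Vi : Scheme.{u}) (fi : Vi ⟶ (D.obj i).left) (qV : V ⟶ Vi)
      (t : pullback (fi ≫ (D.obj i).hom) (D.obj i).hom ⟶ Vi),
      Etale fi ∧ IsSeparated fi ∧ QuasiCompact fi ∧ IsPullback qV f fi (c.π.app i).left ∧
        (t ≫ fi = pullback.snd _ _) ∧
        ∀ {T : Scheme.{u}} (v : T ⟶ V) (x : T ⟶ c.pt.left) (h : v ≫ f ≫ c.pt.hom = x ≫ c.pt.hom)
          (h' : (v ≫ qV) ≫ fi ≫ (D.obj i).hom = (x ≫ (c.π.app i).left) ≫ (D.obj i).hom),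
          P.act v x h ≫ qV = stageAct fi t (v ≫ qV) (x ≫ (c.π.app i).left) h' := by
  obtain ⟨i, Vi, fi, qV, he, hs, hq, sq⟩ := exists_stage_scheme hc f
  haveI := he; haveI := hs; haveI := hq
  let w₁ : sqOb D i ⟶ (D.obj i).left := pullback.fst (D.obj i).hom (D.obj i).hom
  let w₂ : sqOb D i ⟶ (D.obj i).left := pullback.snd (D.obj i).hom (D.obj i).hom
  let xi := pullback.snd fi w₁
  let yi := pullback.snd fi w₂
  haveI : Smooth fi := inferInstance
  haveI : LocallyOfFinitePresentation fi := inferInstance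
  haveI : LocallyOfFinitePresentation yi := MorphismProperty.pullback_snd _ _ inferInstance
  haveI : QuasiCompact xi := MorphismProperty.pullback_snd _ _ inferInstance
  haveI : QuasiSeparated xi := MorphismProperty.pullback_snd _ _ inferInstance
  haveI : CompactSpace ↥(pullback fi w₁) := QuasiCompact.compactSpace_of_compactSpace xi
  haveI : QuasiSeparatedSpace ↥(pullback fi w₁) := quasiSeparatedSpace_of_quasiSeparated xi
  have hp : ∀ j, (c.π.app j).left ≫ (D.obj j).hom = c.pt.hom := fun j => Over.w (c.π.app j)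
  have hw₁ : sqπ c i ≫ w₁ = pullback.fst c.pt.hom c.pt.hom ≫ (c.π.app i).left := sqπ_fst i
  have hw₂ : sqπ c i ≫ w₂ = pullback.snd c.pt.hom c.pt.hom ≫ (c.π.app i).left := sqπ_snd i
  let A := pullback xi (sqπ c i)
  let wA : A ⟶ pullback c.pt.hom c.pt.hom := pullback.snd xi (sqπ c i)
  let eA : A ⟶ pullback fi w₁ := pullback.fst xi (sqπ c i)
  let x₁ : A ⟶ c.pt.left := wA ≫ pullback.fst c.pt.hom c.pt.hom
  let x₂ : A ⟶ c.pt.left := wA ≫ pullback.snd c.pt.hom c.pt.hom
  have hx₁ : x₁ ≫ (c.π.app i).left = (eA ≫ pullback.fst fi w₁) ≫ fi := by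
    simp only [x₁, Category.assoc, ← hw₁]
    rw [pullback.condition, ← Category.assoc eA, pullback.condition, Category.assoc]
  let v₀ : A ⟶ V := sq.lift (eA ≫ pullback.fst fi w₁) x₁ hx₁.symm
  have hv₀ : v₀ ≫ f = x₁ := sq.lift_snd _ _ _
  have hv₀q : v₀ ≫ qV = eA ≫ pullback.fst fi w₁ := sq.lift_fst _ _ _
  have h₀ : v₀ ≫ f ≫ c.pt.hom = x₂ ≫ c.pt.hom := by
    rw [reassoc_of% hv₀]
    simp only [x₁, x₂, Category.assoc]
    exact congrArg (wA ≫ ·) pullback.condition
  let a₀ := P.act v₀ x₂ h₀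
  have ha₀ : (a₀ ≫ qV) ≫ fi = (wA ≫ sqπ c i) ≫ w₂ := by
    rw [Category.assoc, sq.w, ← Category.assoc, P.hom]
    simp only [x₂, Category.assoc, hw₂]
  let eB : A ⟶ pullback fi w₂ := pullback.lift (a₀ ≫ qV) (wA ≫ sqπ c i) ha₀
  let F : A ⟶ pullback yi (sqπ c i) := pullback.lift eB wA (pullback.lift_snd _ _ _)
  obtain ⟨j, φ, fj, sX, sY, k1, k2, k3, k4, k5, k6⟩ := exists_hom_stage_sq hc xi yi F
    (pullback.lift_snd _ _ _)
  -- the stage
  let π := (D.map φ).left
  let Vj := pullback fi π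
  let fj' : Vj ⟶ (D.obj j).left := pullback.snd fi π
  let qVj : V ⟶ Vj := pullback.lift qV (f ≫ (c.π.app j).left) (by
    rw [Category.assoc]
    exact sq.w.trans (congrArg (f ≫ ·) (congrArg CommaMorphism.left (c.w φ)).symm))
  have sqj : IsPullback qVj f fj' (c.π.app j).left := by
    refine IsPullback.of_right ?_ (pullback.lift_snd _ _ _) (IsPullback.of_hasPullback fi π)
    rw [pullback.lift_fst, show (c.π.app j).left ≫ π = (c.π.app i).left from congrArg CommaMorphism.left (c.w φ)]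
    exact sq
  let pj := (D.obj j).hom
  let src' : pullback (fj' ≫ pj) pj ⟶ Vj := pullback.fst _ _
  let pt' : pullback (fj' ≫ pj) pj ⟶ (D.obj j).left := pullback.snd _ _
  let wj : pullback (fj' ≫ pj) pj ⟶ sqOb D j :=
    pullback.lift (src' ≫ fj') pt' ((Category.assoc _ _ _).trans pullback.condition)
  let σ : pullback (fj' ≫ pj) pj ⟶ pullback xi (sqMap D φ) :=
    pullback.lift (pullback.lift (src' ≫ pullback.fst fi π) (wj ≫ sqMap D φ) (by
      rw [Category.assoc, Category.assoc]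
      show src' ≫ pullback.fst fi π ≫ fi = wj ≫ sqMap D φ ≫ pullback.fst _ _
      rw [sqMap_fst, pullback.condition]
      exact (Category.assoc _ _ _).symm.trans ((congrArg (· ≫ π)
        (pullback.lift_fst (src' ≫ fj') pt' _).symm).trans (Category.assoc _ _ _))))
      wj (pullback.lift_snd _ _ _)
  have hσ₂ : σ ≫ pullback.snd xi (sqMap D φ) = wj := pullback.lift_snd _ _ _
  let b : pullback (fj' ≫ pj) pj ⟶ pullback fi w₂ := (σ ≫ fj) ≫ pullback.fst yi (sqMap D φ)
  have hb : b ≫ yi = wj ≫ sqMap D φ := by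
    simp only [b, Category.assoc]
    rw [pullback.condition, reassoc_of% k1, reassoc_of% hσ₂]
  let t : pullback (fj' ≫ pj) pj ⟶ Vj := pullback.lift (b ≫ pullback.fst fi w₂) pt' (by
    rw [Category.assoc, pullback.condition, ← Category.assoc b, hb, Category.assoc]
    show wj ≫ sqMap D φ ≫ pullback.snd _ _ = _
    rw [sqMap_snd, ← Category.assoc]
    exact congrArg (· ≫ π) (pullback.lift_snd _ _ _))
  haveI : Etale fj' := MorphismProperty.pullback_snd _ _ he
  haveI : IsSeparated fj' := MorphismProperty.pullback_snd _ _ hs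
  haveI : QuasiCompact fj' := MorphismProperty.pullback_snd _ _ hq
  refine ⟨j, Vj, fj', qVj, t, inferInstance, inferInstance, inferInstance, sqj, pullback.lift_snd _ _ _, ?_⟩
  intro T v x h h'
  let l : T ⟶ pullback (fj' ≫ pj) pj := pullback.lift (v ≫ qVj) (x ≫ (c.π.app j).left) h'
  have hl₁ : l ≫ src' = v ≫ qVj := pullback.lift_fst _ _ _
  have hl₂ : l ≫ pt' = x ≫ (c.π.app j).left := pullback.lift_snd _ _ _
  let wT : T ⟶ pullback c.pt.hom c.pt.hom := pullback.lift (v ≫ f) x ((Category.assoc _ _ _).trans h)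
  have hwT₁ : wT ≫ pullback.fst c.pt.hom c.pt.hom = v ≫ f := pullback.lift_fst _ _ _
  have hwT₂ : wT ≫ pullback.snd c.pt.hom c.pt.hom = x := pullback.lift_snd _ _ _
  let u : T ⟶ A := pullback.lift (pullback.lift (v ≫ qV) (wT ≫ sqπ c i) (by
    rw [Category.assoc, sq.w, Category.assoc, hw₁, reassoc_of% hwT₁])) wT (pullback.lift_snd _ _ _)
  have hu₁ : u ≫ eA ≫ pullback.fst fi w₁ = v ≫ qV := by
    simp only [u, eA, pullback.lift_fst_assoc, pullback.lift_fst]
  have hu₂ : u ≫ wA = wT := pullback.lift_snd _ _ _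
  have hu₀ : u ≫ v₀ = v := by
    apply sq.hom_ext
    · rw [Category.assoc, hv₀q, hu₁]
    · rw [Category.assoc, hv₀]
      simp only [x₁, reassoc_of% hu₂, hwT₁]
  have hwl : l ≫ wj = wT ≫ sqπ c j := by
    apply pullback.hom_ext
    · refine ((Category.assoc _ _ _).trans (congrArg (l ≫ ·) (pullback.lift_fst _ _ _))).trans ?_
      refine Eq.trans ?_ ((Category.assoc _ _ _).trans (congrArg (wT ≫ ·) (sqπ_fst j))).symm
      rw [← Category.assoc, hl₁, Category.assoc, sqj.w, reassoc_of% hwT₁]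
    · refine ((Category.assoc _ _ _).trans (congrArg (l ≫ ·) (pullback.lift_snd _ _ _))).trans ?_
      refine Eq.trans ?_ ((Category.assoc _ _ _).trans (congrArg (wT ≫ ·) (sqπ_snd j))).symm
      rw [hl₂, reassoc_of% hwT₂]
  have hσu : l ≫ σ = u ≫ sX := by
    apply pullback.hom_ext
    · rw [Category.assoc, Category.assoc, k2, pullback.lift_fst]
      apply pullback.hom_ext
      · refine ((Category.assoc _ _ _).trans (congrArg (l ≫ ·) (pullback.lift_fst _ _ _))).trans ?_
        rw [← Category.assoc l, hl₁]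
        refine (Category.assoc _ _ _).trans ((congrArg (v ≫ ·) (pullback.lift_fst _ _ _)).trans ?_)
        exact hu₁.symm.trans (Category.assoc _ _ _).symm
      · refine ((Category.assoc _ _ _).trans (congrArg (l ≫ ·) (pullback.lift_snd _ _ _))).trans ?_
        rw [← Category.assoc l, hwl, Category.assoc, sqπ_w φ, Category.assoc, pullback.condition, ← hu₂,
          Category.assoc]
    · rw [Category.assoc, Category.assoc, hσ₂, k3, hwl, reassoc_of% hu₂]
  have hact : stageAct fj' t (v ≫ qVj) (x ≫ (c.π.app j).left) h' = l ≫ t := rfl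
  rw [hact]
  apply pullback.hom_ext
  · rw [Category.assoc, Category.assoc, pullback.lift_fst, pullback.lift_fst]
    simp only [b, Category.assoc]
    rw [reassoc_of% hσu, reassoc_of% k6, reassoc_of% k4, pullback.lift_fst_assoc, pullback.lift_fst]
    simp only [a₀]
    rw [← Category.assoc u, P.natural' u v₀ x₂ h₀ h hu₀ (by simp only [x₂, reassoc_of% hu₂, hwT₂])]
  · rw [Category.assoc, Category.assoc, pullback.lift_snd, pullback.lift_snd, hl₂, ← Category.assoc, P.hom]

end Groth.L23.SepEt
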