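import Groth.Agent.L27.EtGlue.Nested

/-!
# From effective etale descent data to descended separated etale schemes
-/

set_option autoImplicit false
set_option linter.style.haveILetI false
set_option backward.isDefEq.respectTransparency.types false

universe u

open CategoryTheory CategoryTheory.Limits AlgebraicGeometry Groth.L20.SchDesc Groth.L27.EtGlue

namespace Groth.L23.SepEt

variable {S' S : Scheme.{u}} {g : S' ⟶ S}

/-- The one-member family of a datum. -/
noncomputable abbrev fam (D : Desc.SchDD g) : Desc.SchDDFam (fun _ : PUnit.{1} => g) :=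
  (Desc.SchDDFam.oneEquiv.{0} g).inverse.obj D

theorem exists_sep_of_effective (hg : SGA1.UnivSubmersive g) (D : Desc.SchDD g) [IsSeparated D.obj.hom]
    (h : EtEffective (preOf (fam D))) :
    ∃ U : Over S, IsSeparated U.hom ∧ Etale U.hom ∧ Nonempty ((Desc.toDD g).obj U ≅ D) ∧
      (QuasiCompact g → QuasiCompact D.obj.hom → QuasiCompact U.hom) := by
  let E := Desc.SchDDFam.oneEquiv.{0} g
  let D₁ := E.inverse.obj D
  let i₁ : (Desc.SchDDFam.toSchDD g).obj D₁ ≅ D := E.counitIso.app D
  haveI : IsSeparated (prj D₁) := inferInstanceAs (IsSeparated D.obj.hom)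
  obtain ⟨d⟩ := h
  let q : tot D₁ ⟶ d.U := d.q
  have hpb : IsPullback (prj D₁) q g d.a := d.isPullback
  haveI : IsSeparated d.a := Groth.L27.SubDesc.isSeparated hpb hg inferInstance
  obtain ⟨i⟩ := nonempty_iso_toDD _ d.toDescent
  refine ⟨Over.mk d.a, inferInstanceAs (IsSeparated d.a), d.etale, ⟨i ≪≫ i₁⟩, fun _ hD => ?_⟩
  haveI : QuasiCompact (prj D₁) := hD
  haveI := surjective_of_univSubmersive hg
  haveI : Surjective q := MorphismProperty.of_isPullback (P := @Surjective) hpb inferInstance
  haveI : QuasiCompact (q ≫ d.a) := hpb.w ▸ inferInstance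
  exact Groth.L08.NormalQuot.quasiCompact_of_surjective q d.a

theorem exists_qc_sep_of_effective (hg : SGA1.UnivSubmersive g) [QuasiCompact g] (D : Desc.SchDD g)
    [IsSeparated D.obj.hom] [QuasiCompact D.obj.hom] (h : EtEffective (preOf (fam D))) :
    ∃ U : Over S, QuasiCompact U.hom ∧ IsSeparated U.hom ∧ Etale U.hom ∧
      Nonempty ((Desc.toDD g).obj U ≅ D) :=
  let ⟨U, h1, h2, h3, h4⟩ := exists_sep_of_effective hg D h
  ⟨U, h4 inferInstance inferInstance, h1, h2, h3⟩

end Groth.L23.SepEt
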