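import Groth.Agent.L23.SepEt.Proper
import Groth.Agent.L23.SepEt.Wrap
import Groth.Agent.L20.SchDesc.AffineReduce
import Groth.Agent.L20.SchDesc.Orbit
import Groth.Agent.L28.Strata.Topo
import Mathlib.AlgebraicGeometry.Morphisms.FinitePresentation
import Mathlib.AlgebraicGeometry.Fiber

/-!
# From quasi-compact etale descent data to arbitrary separated etale ones
-/

set_option autoImplicit false
set_option linter.style.haveILetI false
set_option linter.unusedSectionVars false
set_option backward.isDefEq.respectTransparency.types false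

universe u

open CategoryTheory CategoryTheory.Limits AlgebraicGeometry Groth.L20.SchDesc Groth.L27.EtGlue TopologicalSpace Topology

namespace Groth.L23.SepEt

variable {X S V : Scheme.{u}} {p : X ⟶ S} {f : V ⟶ X}

/-- Effectivity of an action from that of the associated one-member family. -/
theorem etEffective_of_fam (P : Pre p f) (h : EtEffective (preOf (fam (toSchDD P)))) : EtEffective P := by
  obtain ⟨d⟩ := h
  exact ⟨⟨⟨d.U, d.a, d.q, d.isPullback, fun v x e => d.comm v x e⟩, d.etale⟩⟩

/-- Quasi-compact separated etale actions along proper surjections of finite presentation are effective. -/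
theorem etEffective_pre_qc_proper [IsProper p] [Surjective p] [LocallyOfFinitePresentation p] [Etale f]
    [IsSeparated f] [QuasiCompact f] (P : Pre p f) : EtEffective P := by
  haveI : Etale (prj (fam (toSchDD P))) := inferInstanceAs (Etale f)
  haveI : IsSeparated (prj (fam (toSchDD P))) := inferInstanceAs (IsSeparated f)
  haveI : QuasiCompact (prj (fam (toSchDD P))) := inferInstanceAs (QuasiCompact f)
  exact etEffective_of_fam P etEffective_of_proper

/-- The core of a quasi-compact open containing the orbit of a point is a quasi-compact stable open. -/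
theorem exists_stable_qc_open [CompactSpace S] [QuasiSeparatedSpace S] [UniversallyClosed p]
    [QuasiCompact p] [QuasiSeparated p] [LocallyOfFinitePresentation p] [QuasiSeparated f] (P : Pre p f) (v : V) :
    ∃ O : V.Opens, v ∈ O ∧ ∃ _ : Stable P O, QuasiCompact (O.ι ≫ f) := by
  haveI : QuasiSeparatedSpace X := quasiSeparatedSpace_of_quasiSeparated p
  haveI : QuasiSeparatedSpace V := quasiSeparatedSpace_of_quasiSeparated f
  haveI : UniversallyClosed (src p f) := MorphismProperty.pullback_fst _ _ inferInstance
  haveI : QuasiSeparated (src p f) := MorphismProperty.pullback_fst _ _ inferInstance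
  haveI : LocallyOfFinitePresentation (src p f) := MorphismProperty.pullback_fst _ _ inferInstance
  haveI : QuasiCompact (src p f) := MorphismProperty.pullback_fst _ _ inferInstance
  have : IsIso P.flip := ⟨P.flip, flip_flip P, flip_flip P⟩
  haveI : QuasiCompact P.map := by rw [← flip_src P]; infer_instance
  -- the orbit is compact
  have horb : {w | Orbit P v w} = P.map '' (src p f ⁻¹' {v}) := by
    ext w
    constructor
    · rintro ⟨r, hr, rfl⟩; exact ⟨r, hr, rfl⟩
    · rintro ⟨r, hr, rfl⟩; exact ⟨r, hr, rfl⟩
  obtain ⟨W, hWc, hvW⟩ : ∃ W : V.Opens, IsCompact (W : Set V) ∧ {w | Orbit P v w} ⊆ W := by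
    rw [horb]
    obtain ⟨t, ht⟩ := (((src p f).isCompact_preimage_singleton v).image P.map.continuous).elim_finite_subcover
      (fun U : V.affineOpens => (U.1 : Set V)) (fun U => U.1.2) (fun y _ => by
        obtain ⟨_, ⟨U, hU, rfl⟩, hyU, -⟩ :=
          V.isBasis_affineOpens.exists_subset_of_mem_open (Set.mem_univ y) isOpen_univ
        exact Set.mem_iUnion.mpr ⟨⟨U, hU⟩, hyU⟩)
    refine ⟨⨆ U ∈ t, U.1, ?_, fun y hy => ?_⟩
    · simp only [Opens.coe_iSup]
      exact t.isCompact_biUnion fun U _ => U.2.isCompact
    · obtain ⟨U, hU, hyU⟩ := Set.mem_iUnion₂.mp (ht hy)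
      simp only [Opens.coe_iSup]
      exact Set.mem_iUnion₂.mpr ⟨U, hU, hyU⟩
  have hclosed : closure (src p f '' (P.map ⁻¹' (W : Set V)ᶜ)) = src p f '' (P.map ⁻¹' (W : Set V)ᶜ) :=
    ((src p f).isClosedMap _ (W.isOpen.isClosed_compl.preimage P.map.continuous)).closure_eq
  have hv : v ∈ coreOpen P W := by
    intro hc
    rw [hclosed] at hc
    obtain ⟨r, hr, hrv⟩ := hc
    exact hr (hvW ⟨r, hrv, rfl⟩)
  have hst : Stable P (coreOpen P W) := by
    refine stable_of_orbit P fun a b hab ha hb => ?_
    rw [hclosed] at hb
    obtain ⟨r, hr, hrb⟩ := hb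
    exact hr (orbit_mem_of_mem_core P (Orbit.trans P hab ⟨r, hrb, rfl⟩) ha)
  -- it is quasi-compact
  have hc : IsCompact ((coreOpen P W : V.Opens) : Set V) := by
    haveI : CompactSpace W := isCompact_iff_compactSpace.1 hWc
    let σ := src p f ∣_ W
    haveI : CompactSpace (src p f ⁻¹ᵁ W).toScheme := QuasiCompact.compactSpace_of_compactSpace σ
    haveI : QuasiSeparatedSpace W := W.ι.isOpenEmbedding.quasiSeparatedSpace
    haveI : QuasiSeparatedSpace (src p f ⁻¹ᵁ W).toScheme := quasiSeparatedSpace_of_quasiSeparated σ
    haveI : LocallyOfFinitePresentation σ :=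
      MorphismProperty.of_isPullback (P := @LocallyOfFinitePresentation)
        (isPullback_morphismRestrict (src p f) W).flip inferInstance
    haveI : QuasiCompact σ :=
      MorphismProperty.of_isPullback (P := @QuasiCompact) (isPullback_morphismRestrict (src p f) W).flip inferInstance
    let M : Set (src p f ⁻¹ᵁ W).toScheme := ((src p f ⁻¹ᵁ W).ι ≫ P.map) ⁻¹' (W : Set V)
    have hM : IsConstructible M := Scheme.Hom.isConstructible_preimage _
      (hWc.isConstructible W.isOpen)
    have hC := (σ.isConstructible_image hM.compl).compl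
    have hcomp := (Groth.L28.Strata.isCompact_of_isConstructible hC).image W.ι.continuous
    convert hcomp using 1
    have hσ : ∀ r : (src p f ⁻¹ᵁ W).toScheme, W.ι (σ r) = src p f r.1 := fun r =>
      congrArg (fun m => m r) (morphismRestrict_ι (src p f) W)
    ext y
    constructor
    · intro hy
      refine ⟨⟨y, core_le P W hy⟩, ?_, rfl⟩
      rintro ⟨r, hr, hry⟩
      refine hy ?_
      rw [hclosed]
      exact ⟨r.1, hr, (hσ r).symm.trans (congrArg W.ι hry)⟩
    · rintro ⟨y', hy', rfl⟩ hy
      rw [hclosed] at hy
      obtain ⟨r, hr, hry⟩ := hy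
      have hrW : r ∈ src p f ⁻¹ᵁ W := by
        show src p f r ∈ W
        rw [hry]
        exact y'.2
      refine hy' ⟨⟨r, hrW⟩, hr, W.ι.isOpenEmbedding.injective ?_⟩
      exact (hσ ⟨r, hrW⟩).trans hry
  haveI : CompactSpace (coreOpen P W).toScheme := isCompact_iff_compactSpace.1 hc
  exact ⟨coreOpen P W, hv, hst, inferInstance⟩

/-- If quasi-compact separated etale data along `p` and its base changes to opens are effective, so are
all separated etale data. -/
theorem etEffective_of_qc [UniversallyClosed p] [Surjective p] [QuasiCompact p] [QuasiSeparated p]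
    [LocallyOfFinitePresentation p]
    (hqc : ∀ (W : S.Opens), IsAffineOpen W → ∀ {V' : Scheme.{u}} (f' : V' ⟶ pullback p W.ι) [Etale f']
      [IsSeparated f'] [QuasiCompact f'] (Q : Pre (pullback.snd p W.ι) f'), EtEffective Q)
    [Etale f] [IsSeparated f] (P : Pre p f) : EtEffective P := by
  have hp := Groth.L27.TopInv.univSubmersive_of_universallyClosed p
  let D := fam (toSchDD P)
  refine etEffective_of_fam P (etEffective_of_cover hp _ fun v => ?_)
  obtain ⟨W, hW, hvW, -⟩ :=
    exists_isAffineOpen_mem_and_subset (X := S) (x := p (f v)) (U := ⊤) trivial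
  refine exists_piece W.ι D ?_ v (by rw [Scheme.Opens.range_ι]; exact hvW)
  let E := pull W.ι D
  haveI : IsAffine W := hW
  let p' := pullback.snd p W.ι
  haveI : UniversallyClosed p' := MorphismProperty.pullback_snd _ _ inferInstance
  haveI : Surjective p' := MorphismProperty.pullback_snd _ _ inferInstance
  haveI : QuasiCompact p' := MorphismProperty.pullback_snd _ _ inferInstance
  haveI : QuasiSeparated p' := MorphismProperty.pullback_snd _ _ inferInstance
  haveI : LocallyOfFinitePresentation p' := MorphismProperty.pullback_snd _ _ inferInstance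
  haveI : Etale (prj E) := MorphismProperty.pullback_snd (P := @Etale) f _ inferInstance
  haveI : IsSeparated (prj E) := MorphismProperty.pullback_snd (P := @IsSeparated) f _ inferInstance
  refine etEffective_of_cover (Groth.L27.TopInv.univSubmersive_of_universallyClosed p') _ fun y => ?_
  obtain ⟨O, hy, hO, hOc⟩ := exists_stable_qc_open (preOf E) y
  exact ⟨O, hy, hO, hqc W hW _ (restrict (preOf E) hO)⟩

/-- Separated etale actions along proper surjections of finite presentation are effective. -/
theorem etEffective_pre_proper [IsProper p] [Surjective p] [LocallyOfFinitePresentation p] [Etale f]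
    [IsSeparated f] (P : Pre p f) : EtEffective P :=
  etEffective_of_qc (fun W _ _ f' _ _ _ Q => etEffective_pre_qc_proper Q) P

end Groth.L23.SepEt
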