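import Groth.Agent.L23.SepEt.Chart
import Groth.Agent.L23.SepEt.Compose
import Groth.Agent.L23.SepEt.Ext
import Groth.Agent.L09.SubtrNoeth
import Groth.Agent.L09.SubtrLC
import Groth.Agent.L09.SubtrLimit
import Groth.Agent.L06.Subtr.Global
import Groth.Agent.S14782

/-!
# Separated etale descent data along universally subtrusive morphisms of finite presentation
-/

set_option autoImplicit false
set_option linter.style.haveILetI false
set_option linter.unusedSectionVars false
set_option backward.isDefEq.respectTransparency.types false

universe u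

open CategoryTheory CategoryTheory.Limits AlgebraicGeometry Groth.L20.SchDesc Groth.L27.EtGlue

namespace Groth.L23.SepEt

variable {X S V : Scheme.{u}} {p : X ⟶ S} {f : V ⟶ X}

/-- Universally closed surjections are universally S-subtrusive. -/
theorem univSSubtrusive_of_universallyClosed (p : X ⟶ S) [UniversallyClosed p] [Surjective p] :
    Subtr.UnivSSubtrusive p := by
  intro X' S' i₁ i₂ p' sq
  haveI : UniversallyClosed p' := MorphismProperty.of_isPullback sq.flip inferInstance
  haveI : Surjective p' := MorphismProperty.of_isPullback sq.flip inferInstance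
  intro y y' hy
  obtain ⟨x', rfl⟩ := p'.surjective y'
  obtain ⟨x, hx, rfl⟩ : y ∈ p' '' closure {x'} :=
    hy.mem_closed (p'.isClosedMap _ isClosed_closure) ⟨x', subset_closure rfl, rfl⟩
  exact ⟨x, x', specializes_iff_mem_closure.2 hx, rfl, rfl⟩

theorem etEffective_of_eq {p₁ p₂ : X ⟶ S} (e : p₁ = p₂) (h : ∀ Q : Pre p₂ f, EtEffective Q)
    (P : Pre p₁ f) : EtEffective P := by
  subst e
  exact h P

/-- Effectivity from a refinement by a Zariski cover of a proper surjection. -/
theorem etEffective_of_refinement [Etale f] [IsSeparated f] {T Y : Scheme.{u}} (h : T ⟶ X) (z : T ⟶ Y)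
    (q : Y ⟶ S) (e : h ≫ p = z ≫ q) [Flat z] [Surjective z] [QuasiCompact z] [IsProper q] [Surjective q]
    [LocallyOfFinitePresentation q] (P : Pre p f) : EtEffective P := by
  have hu : SGA1.UnivSubmersive (h ≫ p) := by
    rw [e]
    exact Groth.L09.Subtr.univSubmersive_of_univSSubtrusive _
      (Groth.L09.SubtrLimit.univ_comp (Groth.L09.Subtr.univ_of_flat z) (univSSubtrusive_of_universallyClosed q))
  refine etEffective_of_chart P h hu ?_
  haveI : Etale (pullback.snd f h) := MorphismProperty.pullback_snd _ _ inferInstance
  haveI : IsSeparated (pullback.snd f h) := MorphismProperty.pullback_snd _ _ inferInstance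
  exact etEffective_of_eq e (fun Q => etEffective_comp (fun b _ _ _ R => etEffective_pre_proper R) Q) _

/-- Separated etale actions along universally S-subtrusive morphisms of finite presentation are effective. -/
theorem etEffective_of_univSSubtrusive_fp [LocallyOfFinitePresentation p] [QuasiCompact p] [QuasiSeparated p]
    (hp : Subtr.UnivSSubtrusive p) [Etale f] [IsSeparated f] (P : Pre p f) : EtEffective P := by
  have hu := Groth.L09.Subtr.univSubmersive_of_univSSubtrusive p hp
  let D := fam (toSchDD P)
  refine etEffective_of_fam P (etEffective_of_cover hu _ fun v => ?_)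
  obtain ⟨W, hW, hvW, -⟩ :=
    exists_isAffineOpen_mem_and_subset (X := S) (x := p (f v)) (U := ⊤) trivial
  refine exists_piece W.ι D ?_ v (by rw [Scheme.Opens.range_ι]; exact hvW)
  let E := pull W.ι D
  let p' := pullback.snd p W.ι
  haveI : IsAffine W.toScheme := hW
  haveI : QuasiCompact p' := MorphismProperty.pullback_snd _ _ inferInstance
  haveI : QuasiSeparated p' := MorphismProperty.pullback_snd _ _ inferInstance
  haveI : LocallyOfFinitePresentation p' := MorphismProperty.pullback_snd _ _ inferInstance
  have hp' : Subtr.UnivSSubtrusive p' :=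
    (MorphismProperty.universally_isStableUnderBaseChange _).of_isPullback
      (IsPullback.of_hasPullback p W.ι) hp
  obtain ⟨T, Y, h, z, q, e, hzs, hzq, hzl, hqp, hqs, hqf⟩ :=
    Groth.Agent.S14782.result p' (Or.inl inferInstance) hp'
  haveI := hzs; haveI := hzq; haveI := hqp; haveI := hqs; haveI := hqf
  obtain ⟨hzflat, -⟩ := Groth.L06.Subtr.flat_of_localIso z hzl
  haveI : Etale (prj E) := MorphismProperty.pullback_snd (P := @Etale) f _ inferInstance
  haveI : IsSeparated (prj E) := MorphismProperty.pullback_snd (P := @IsSeparated) f _ inferInstance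
  exact etEffective_of_refinement h z q e (preOf E)

end Groth.L23.SepEt
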