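import Groth.Agent.S0240
import Groth.Agent.L27.ClopenLift
import Mathlib.AlgebraicGeometry.Morphisms.Proper

/-!
# Proper schemes over a henselian local ring: henselian couples and lifting of sections
-/

set_option autoImplicit false
set_option linter.style.haveILetI false
set_option linter.unusedSectionVars false
set_option backward.isDefEq.respectTransparency.types false

universe u

open CategoryTheory CategoryTheory.Limits AlgebraicGeometry TopologicalSpace

namespace Groth.L23.SepEt

variable {A : Type u} [CommRing A] [HenselianLocalRing A]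

local notation "res[" A "]" => Spec.map (CommRingCat.ofHom (IsLocalRing.residue A))

instance isClosedImmersion_res : IsClosedImmersion res[A] :=
  IsClosedImmersion.spec_of_surjective _ IsLocalRing.residue_surjective

theorem closedPoint_mem_range_res :
    (IsLocalRing.closedPoint A : Spec (CommRingCat.of A)) ∈ Set.range res[A] :=
  ⟨IsLocalRing.closedPoint _, IsLocalRing.comap_closedPoint (IsLocalRing.residue A)⟩

/-- A non-empty closed subset of a scheme universally closed over `A` meets the closed fibre. -/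
theorem exists_closedFibre_point {Y : Scheme.{u}} (y : Y ⟶ Spec (CommRingCat.of A)) [UniversallyClosed y]
    {Z : Set Y} (hZ : IsClosed Z) (h : Z.Nonempty) :
    ∃ w : ↥(pullback y res[A]), pullback.fst y res[A] w ∈ Z := by
  have hc := y.isClosedMap Z hZ
  obtain ⟨z, hz⟩ := h
  obtain ⟨z', hz', e⟩ : (IsLocalRing.closedPoint A : Spec (CommRingCat.of A)) ∈ y '' Z :=
    Specializes.mem_closed (IsLocalRing.specializes_closedPoint (y z)) hc ⟨z, hz, rfl⟩
  obtain ⟨b, hb⟩ := closedPoint_mem_range_res (A := A)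
  obtain ⟨w, hw, -⟩ := Scheme.Pullback.exists_preimage_pullback (f := y) (g := res[A]) z' b (e.trans hb.symm)
  exact ⟨w, hw ▸ hz'⟩

/-- Clopens of the closed fibre of a proper scheme lift uniquely. -/
theorem clopen_lift_proper {Y : Scheme.{u}} (y : Y ⟶ Spec (CommRingCat.of A)) [IsProper y]
    (V : Set ↥(pullback y res[A])) (hV : IsClopen V) :
    ∃! U : Set Y, IsClopen U ∧ (pullback.fst y res[A]).base ⁻¹' U = V := by
  haveI := Groth.Agent.S0240.result A y
  let ρ := pullback.fst y res[A]
  let O : (pullback y res[A]).Opens := ⟨V, hV.2⟩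
  haveI : IsClosedImmersion O.ι := IsClosedImmersion.of_isPreimmersion O.ι (by
    rw [Scheme.Opens.range_ι]; exact hV.1)
  let W₀ : FEt.Cat (pullback y res[A]) := MorphismProperty.Over.mk ⊤ O.ι ⟨inferInstance, inferInstance⟩
  let W := (FEt.restrict ρ).objPreimage W₀
  let i : (FEt.restrict ρ).obj W ≅ W₀ := (FEt.restrict ρ).objObjPreimageIso W₀
  haveI : IsFinite W.hom := W.prop.1
  haveI : Etale W.hom := W.prop.2
  let a : W.left ⟶ Y := W.hom
  haveI : IsFinite a := W.prop.1
  haveI : Etale a := W.prop.2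
  let il : pullback a ρ ≅ O.toScheme := ((MorphismProperty.Over.forget _ _ _ ⋙ Over.forget _).mapIso i)
  have hil : il.hom ≫ O.ι = pullback.snd a ρ := MorphismProperty.Over.w i.hom
  refine ⟨Set.range a, ⟨⟨a.isClosedMap.isClosed_range, a.isOpenMap.isOpen_range⟩, ?_⟩,
    fun U' ⟨hU', hU'V⟩ => ?_⟩
  · show ρ ⁻¹' Set.range a = V
    rw [← Scheme.Pullback.range_snd, ← hil]
    ext z
    constructor
    · rintro ⟨x, rfl⟩
      rw [Scheme.Hom.comp_apply]
      exact (il.hom x).2
    · intro hz
      refine ⟨il.inv (⟨z, hz⟩ : O), ?_⟩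
      rw [← Scheme.Hom.comp_apply, Iso.inv_hom_id_assoc]
      rfl
  · have hU : IsClopen (Set.range a) := ⟨a.isClosedMap.isClosed_range, a.isOpenMap.isOpen_range⟩
    have h0 : ρ ⁻¹' Set.range a = V := by
      rw [← Scheme.Pullback.range_snd, ← hil]
      ext z
      constructor
      · rintro ⟨x, rfl⟩
        rw [Scheme.Hom.comp_apply]
        exact (il.hom x).2
      · intro hz
        refine ⟨il.inv (⟨z, hz⟩ : O), ?_⟩
        rw [← Scheme.Hom.comp_apply, Iso.inv_hom_id_assoc]
        rfl
    apply Set.Subset.antisymm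
    · intro z hz
      by_contra hza
      obtain ⟨w, hw1, hw2⟩ := exists_closedFibre_point y (hU'.1.inter hU.compl.1) ⟨z, hz, hza⟩
      exact hw2 ((Set.ext_iff.1 (hU'V.trans h0.symm) w).1 hw1)
    · intro z hz
      by_contra hza
      obtain ⟨w, hw1, hw2⟩ := exists_closedFibre_point y (hU.1.inter hU'.compl.1) ⟨z, hz, hza⟩
      exact hw2 ((Set.ext_iff.1 (hU'V.trans h0.symm) w).2 hw1)

/-- A proper scheme over a henselian local ring with its closed fibre is a henselian couple. -/
theorem henselian_couple {X : Scheme.{u}} (f : X ⟶ Spec (CommRingCat.of A)) [IsProper f] :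
    ∀ (Y : Scheme.{u}) (g : Y ⟶ X), IsFinite g →
      ∀ V : Set ↥(pullback g (pullback.fst f res[A])), IsClopen V →
        ∃! U : Set ↥Y, IsClopen U ∧ (pullback.fst g (pullback.fst f res[A])).base ⁻¹' U = V := by
  intro Y g hg V hV
  haveI := hg
  let e : pullback g (pullback.fst f res[A]) ≅ pullback (g ≫ f) res[A] :=
    ((IsPullback.of_hasPullback g (pullback.fst f res[A])).paste_vert
      (IsPullback.of_hasPullback f res[A])).isoPullback
  have he : e.hom ≫ pullback.fst (g ≫ f) res[A] = pullback.fst g (pullback.fst f res[A]) :=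
    IsPullback.isoPullback_hom_fst _
  have hei : e.inv ≫ pullback.fst g (pullback.fst f res[A]) = pullback.fst (g ≫ f) res[A] := by
    rw [← he, Iso.inv_hom_id_assoc]
  obtain ⟨U, ⟨hU, hUV⟩, huniq⟩ := clopen_lift_proper (g ≫ f) (e.inv.base ⁻¹' V)
    (hV.preimage e.inv.continuous)
  refine ⟨U, ⟨hU, ?_⟩, fun U' ⟨h1, h2⟩ => huniq U' ⟨h1, ?_⟩⟩
  · ext w
    show pullback.fst g (pullback.fst f res[A]) w ∈ U ↔ w ∈ V
    rw [← he, Scheme.Hom.comp_apply]
    refine (Set.ext_iff.1 hUV (e.hom w)).trans ?_
    show e.inv (e.hom w) ∈ V ↔ w ∈ V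
    rw [← Scheme.Hom.comp_apply, Iso.hom_inv_id]
    rfl
  · ext w
    show pullback.fst (g ≫ f) res[A] w ∈ U' ↔ e.inv w ∈ V
    rw [← hei, Scheme.Hom.comp_apply]
    exact Set.ext_iff.1 h2 (e.inv w)

/-- A section on the closed fibre of an etale separated morphism lifts uniquely. -/
theorem existsUnique_lift_section {X Z : Scheme.{u}} (f : X ⟶ Spec (CommRingCat.of A)) [IsProper f]
    (g : Z ⟶ X) [Etale g] [IsSeparated g] (v : pullback f res[A] ⟶ Z)
    (hv : v ≫ g = pullback.fst f res[A]) :
    ∃! s : X ⟶ Z, s ≫ g = 𝟙 X ∧ pullback.fst f res[A] ≫ s = v := by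
  haveI : CompactSpace X := QuasiCompact.compactSpace_of_compactSpace f
  haveI : QuasiSeparatedSpace X := quasiSeparatedSpace_of_quasiSeparated f
  obtain ⟨s, ⟨hs1, hs2⟩, hu⟩ := Groth.L27.ClopenLift.existsUnique_section (pullback.fst f res[A])
    (henselian_couple f) g (pullback.lift v (𝟙 _) (by rw [hv, Category.id_comp]))
    (pullback.lift_snd _ _ _)
  rw [pullback.lift_fst] at hs2
  exact ⟨s, ⟨hs1, hs2⟩, fun s' ⟨h1, h2⟩ => hu s' ⟨h1, h2.trans (pullback.lift_fst _ _ _).symm⟩⟩

/-- Maps from a proper `A`-scheme to a scheme etale and separated over `X` that agree on the closed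
fibre agree. -/
theorem hom_ext_closedFibre {X Z T : Scheme.{u}} (t : T ⟶ Spec (CommRingCat.of A)) [IsProper t]
    (g : Z ⟶ X) [Etale g] [IsSeparated g] {b b' : T ⟶ Z} (h : b ≫ g = b' ≫ g)
    (h₀ : pullback.fst t res[A] ≫ b = pullback.fst t res[A] ≫ b') : b = b' := by
  let r := b ≫ g
  let Zr := pullback g r
  let s : T ⟶ Zr := pullback.lift b (𝟙 T) (Category.id_comp _).symm
  let s' : T ⟶ Zr := pullback.lift b' (𝟙 T) (h.symm.trans (Category.id_comp _).symm)
  have hs : s = s' := (existsUnique_lift_section t (pullback.snd g r) (pullback.fst t res[A] ≫ s)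
    (by rw [Category.assoc, pullback.lift_snd, Category.comp_id])).unique
      ⟨pullback.lift_snd _ _ _, rfl⟩
      ⟨pullback.lift_snd _ _ _, by
        apply pullback.hom_ext
        · simp only [s, s', Category.assoc, pullback.lift_fst, h₀]
        · simp only [s, s', Category.assoc, pullback.lift_snd]⟩
  exact (pullback.lift_fst _ _ _).symm.trans
    ((congrArg (· ≫ pullback.fst g r) hs).trans (pullback.lift_fst _ _ _))

end Groth.L23.SepEt
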