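import Groth.Agent.L23.SepEt.Lift
import Groth.Agent.L27.EtGlue.Nested
import Groth.Agent.S2906
import Groth.Agent.L07.SyntOverField
import Groth.Agent.L27.ProEt.GeomLift
import Groth.Agent.L27.TopInv.Sections
import Groth.Agent.L05.Henselization.StrictUniq
import Groth.Agent.L23.LocalDimEtale

/-!
# Effectivity of etale descent data along proper surjections over strictly henselian rings
-/

set_option autoImplicit false
set_option linter.style.haveILetI false
set_option linter.unusedSectionVars false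
set_option backward.isDefEq.respectTransparency.types false

universe u

open CategoryTheory CategoryTheory.Limits AlgebraicGeometry Groth.L20.SchDesc Groth.L27.EtGlue

namespace Groth.L23.SepEt

variable {A : Type u} [CommRing A] [HenselianLocalRing A] [IsSepClosed (IsLocalRing.ResidueField A)]

local notation "res[" A "]" => Spec.map (CommRingCat.ofHom (IsLocalRing.residue A))

variable {X : Scheme.{u}} {p : X ⟶ Spec (CommRingCat.of A)}
  {E : Desc.SchDDFam (fun _ : PUnit.{1} => p)}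

/-- Every point of the closed fibre lies on a stable open on which the datum is effective. -/
theorem exists_closed_piece [IsProper p] [Etale (prj E)] [IsSeparated (prj E)]
    (h0 : Good E res[A]) (y : tot E) (hy : toS E y = IsLocalRing.closedPoint A) :
    ∃ O : (tot E).Opens, y ∈ O ∧ ∃ hO : Stable (preOf E) O, EtEffective (restrict (preOf E) hO) := by
  let S₀ := Spec (CommRingCat.of A)
  obtain ⟨t₀, ht₀, hκ₀, hc₀⟩ := h0
  haveI := hκ₀
  haveI := ht₀
  obtain ⟨b, hb⟩ := closedPoint_mem_range_res (A := A)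
  obtain ⟨y₀, hy₀, -⟩ :=
    Scheme.Pullback.exists_preimage_pullback (f := toS E) (g := res[A]) y b (hy.trans hb.symm)
  haveI : Subsingleton (Spec (CommRingCat.of (IsLocalRing.ResidueField A))) :=
    inferInstanceAs (Subsingleton (PrimeSpectrum (IsLocalRing.ResidueField A)))
  let u₁ : t₀.U := t₀.q y₀
  -- the section of the descended scheme over the closed point through the image of `y`
  haveI : IsSepClosed (IsLocalRing.ResidueField A) := inferInstance
  obtain ⟨e, he, hue⟩ : ∃ e : Spec (CommRingCat.of (IsLocalRing.ResidueField A)) ⟶ t₀.U,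
      e ≫ t₀.a = 𝟙 _ ∧ u₁ ∈ Set.range e := by
    -- shrink to the open point
    haveI : LocallyQuasiFinite t₀.a := Groth.L23.lqf_of_etale _
    haveI : IsLocallyArtinian t₀.U := IsLocallyArtinian.of_locallyQuasiFinite t₀.a
    let P : t₀.U.Opens := ⟨{u₁}, isOpen_discrete _⟩
    obtain ⟨s, hs⟩ := Groth.L27.ProEt.exists_section_of_isSepClosed (P.ι ≫ t₀.a) (⟨u₁, rfl⟩ : P)
    refine ⟨s ≫ P.ι, (Category.assoc _ _ _).trans hs, b, ?_⟩
    rw [Scheme.Hom.comp_apply]
    exact (s b).2
  haveI : IsOpenImmersion e := Groth.L27.TopInv.isOpenImmersion_section t₀.a e he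
  let V₀ := pullback (toS E) res[A]
  -- the section on the closed fibre
  let s₀ : pullback p res[A] ⟶ V₀ := pullback.lift (𝟙 _) (pullback.snd p res[A] ≫ e) (by
    rw [Category.id_comp, Category.assoc, he, Category.comp_id]) ≫ inv t₀.κ
  have hs₀κ : s₀ ≫ t₀.κ = pullback.lift (𝟙 _) (pullback.snd p res[A] ≫ e) (by
      rw [Category.id_comp, Category.assoc, he, Category.comp_id]) := by
    rw [Category.assoc, IsIso.inv_hom_id, Category.comp_id]
  have hs₀f : s₀ ≫ fW E res[A] = 𝟙 _ := by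
    rw [← t₀.κ_fst, ← Category.assoc, hs₀κ, pullback.lift_fst]
  have hs₀q : s₀ ≫ t₀.q = pullback.snd p res[A] ≫ e := by
    rw [← t₀.κ_snd, ← Category.assoc, hs₀κ, pullback.lift_snd]
  have hV₀ext : ∀ {T : Scheme.{u}} (a a' : T ⟶ V₀), a ≫ fW E res[A] = a' ≫ fW E res[A] →
      a ≫ t₀.q = a' ≫ t₀.q → a = a' := by
    intro T a a' h1 h2
    rw [← cancel_mono t₀.κ]
    apply pullback.hom_ext
    · rw [Category.assoc, Category.assoc, t₀.κ_fst, h1]
    · rw [Category.assoc, Category.assoc, t₀.κ_snd, h2]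
  -- its lift
  obtain ⟨s, ⟨hs, hsl⟩, -⟩ := existsUnique_lift_section p (prj E) (s₀ ≫ pullback.fst (toS E) res[A])
    (by rw [Category.assoc, ← fW_fst E res[A], ← Category.assoc, hs₀f, Category.id_comp])
  haveI : IsOpenImmersion s := Groth.L27.TopInv.isOpenImmersion_section (prj E) s hs
  have hsX : s ≫ toS E = p := by
    show s ≫ prj E ≫ p = p
    rw [← Category.assoc, hs, Category.id_comp]
  -- invariance
  let Z := pullback p p
  let z₁ := pullback.fst p p
  let z₂ := pullback.snd p p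
  have hz : (z₁ ≫ s) ≫ prj E ≫ p = z₂ ≫ p := by
    rw [Category.assoc, reassoc_of% hs]
    exact pullback.condition
  have hinv : (preOf E).act (z₁ ≫ s) z₂ hz = z₂ ≫ s := by
    haveI : IsProper (z₁ ≫ p) := inferInstance
    refine hom_ext_closedFibre (z₁ ≫ p) (prj E)
      (((preOf E).hom _ _ _).trans (by rw [Category.assoc, hs, Category.comp_id])) ?_
    let j := pullback.fst (z₁ ≫ p) res[A]
    let c := pullback.snd (z₁ ≫ p) res[A]
    have hjc : (j ≫ z₁) ≫ p = c ≫ res[A] := by rw [Category.assoc]; exact pullback.condition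
    have hjc' : (j ≫ z₂) ≫ p = c ≫ res[A] := by
      rw [Category.assoc, ← pullback.condition (f := p) (g := p), ← Category.assoc]; exact hjc
    let w₁ := pullback.lift (j ≫ z₁) c hjc
    let w₂ := pullback.lift (j ≫ z₂) c hjc'
    have hw₁ : (w₁ ≫ s₀) ≫ pullback.fst (toS E) res[A] = j ≫ z₁ ≫ s := by
      rw [Category.assoc, ← hsl, pullback.lift_fst_assoc, Category.assoc]
    have hw₂ : (w₂ ≫ s₀) ≫ pullback.fst (toS E) res[A] = j ≫ z₂ ≫ s := by
      rw [Category.assoc, ← hsl, pullback.lift_fst_assoc, Category.assoc]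
    have hj : ((w₁ ≫ s₀) ≫ pullback.fst (toS E) res[A]) ≫ prj E ≫ p = (j ≫ z₂) ≫ p := by
      rw [hw₁, Category.assoc, hz, Category.assoc]
    let act₀ := (preOf E).act ((w₁ ≫ s₀) ≫ pullback.fst (toS E) res[A]) (j ≫ z₂) hj
    have hact : act₀ = j ≫ (preOf E).act (z₁ ≫ s) z₂ hz :=
      ((preOf E).natural' j _ _ hz hj hw₁.symm rfl).symm
    let v' : pullback (z₁ ≫ p) res[A] ⟶ V₀ := pullback.lift act₀ c
      (((preOf E).hom_p _ _ hj).trans hjc')
    have hv'1 : v' ≫ pullback.fst (toS E) res[A] = act₀ := pullback.lift_fst _ _ _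
    have hv'2 : v' ≫ pullback.snd (toS E) res[A] = c := pullback.lift_snd _ _ _
    have hsnd : (w₁ ≫ s₀) ≫ pullback.snd (toS E) res[A] = c := by
      rw [← fW_snd E res[A], Category.assoc, reassoc_of% hs₀f, pullback.lift_snd]
    have hq : v' ≫ t₀.q = (w₁ ≫ s₀) ≫ t₀.q :=
      hc₀ (w₁ ≫ s₀) v' (j ≫ z₂) hj hv'1 (hv'2.trans hsnd.symm)
    have hv : v' = w₂ ≫ s₀ := by
      refine hV₀ext _ _ ?_ ?_
      · rw [Category.assoc, hs₀f, Category.comp_id]
        apply pullback.hom_ext
        · rw [Category.assoc, fW_fst, ← Category.assoc, hv'1, pullback.lift_fst]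
          exact (preOf E).hom _ _ hj
        · rw [Category.assoc, fW_snd, hv'2, pullback.lift_snd]
      · rw [hq, Category.assoc, hs₀q, Category.assoc, hs₀q, pullback.lift_snd_assoc,
          pullback.lift_snd_assoc]
    show j ≫ (preOf E).act (z₁ ≫ s) z₂ hz = j ≫ z₂ ≫ s
    rw [← hact, ← hv'1, hv, hw₂]
  have hst : Stable (preOf E) s.opensRange := by
    intro T v x h hv
    obtain ⟨v', rfl⟩ : ∃ v', v' ≫ s = v := ⟨_, IsOpenImmersion.lift_fac s v hv⟩
    have h' : v' ≫ p = x ≫ p := by rw [← h, Category.assoc, reassoc_of% hs]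
    have : (preOf E).act (v' ≫ s) x h = x ≫ s := by
      rw [← (preOf E).natural' (pullback.lift v' x h') _ _ hz h (pullback.lift_fst_assoc _ _ _ s)
        (pullback.lift_snd _ _ _), hinv, pullback.lift_snd_assoc]
    rw [this]
    rintro _ ⟨t, rfl⟩
    exact ⟨x t, rfl⟩
  refine ⟨s.opensRange, ?_, hst, ?_⟩
  · -- `y` is on the section
    let O := t₀.q ⁻¹ᵁ e.opensRange
    let w := IsOpenImmersion.lift e (O.ι ≫ t₀.q) (by rintro _ ⟨r, rfl⟩; exact r.2)
    have hw : w ≫ e = O.ι ≫ t₀.q := IsOpenImmersion.lift_fac _ _ _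
    have hw' : w = O.ι ≫ pullback.snd (toS E) res[A] := by
      rw [← t₀.w, ← reassoc_of% hw, he, Category.comp_id]
    have hO : O.ι = (O.ι ≫ fW E res[A]) ≫ s₀ := by
      refine hV₀ext _ _ ?_ ?_
      · rw [Category.assoc, hs₀f, Category.comp_id]
      · rw [Category.assoc, hs₀q, ← hw, hw']
        simp only [Category.assoc, fW_snd_assoc]
    have hmem : y₀ ∈ O := hue
    refine ⟨pullback.fst p res[A] (fW E res[A] y₀), ?_⟩
    have h1 : y₀ = s₀ (fW E res[A] y₀) := congrArg (fun m => m (⟨y₀, hmem⟩ : O)) hO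
    rw [← hy₀, ← Scheme.Hom.comp_apply, hsl, Scheme.Hom.comp_apply, ← h1]
  · let O := s.opensRange
    let ε : X ≅ O.toScheme := s.isoOpensRange
    have hε : ε.hom ≫ O.ι = s := Scheme.Hom.isoOpensRange_hom_ι s
    have hεf : ε.hom ≫ (O.ι ≫ prj E) = 𝟙 X := by rw [← Category.assoc, hε, hs]
    haveI : IsIso (O.ι ≫ prj E) := by
      rw [show O.ι ≫ prj E = ε.inv by rw [← cancel_epi ε.hom, hεf, Iso.hom_inv_id]]
      infer_instance
    refine ⟨⟨⟨S₀, 𝟙 S₀, (O.ι ≫ prj E) ≫ p, IsPullback.of_horiz_isIso ⟨by simp; rfl⟩,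
      fun {T} v x h => ?_⟩, inferInstance⟩⟩
    · show (restrict (preOf E) hst).act v x h ≫ (O.ι ≫ prj E) ≫ p = v ≫ (O.ι ≫ prj E) ≫ p
      rw [← Category.assoc, (restrict (preOf E) hst).hom v x h]
      exact h.symm

end Groth.L23.SepEt
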