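import Groth.Agent.L23.SepEt.Qc
import Groth.Agent.L19.Topology
import Groth.Agent.L27.EffDesc.Fppf
import Mathlib.AlgebraicGeometry.Morphisms.UniversallyOpen

/-!
# Separated etale data along universally open surjections
-/

set_option autoImplicit false
set_option linter.style.haveILetI false
set_option linter.unusedSectionVars false
set_option backward.isDefEq.respectTransparency.types false

universe u

open CategoryTheory CategoryTheory.Limits AlgebraicGeometry Groth.L20.SchDesc Groth.L27.EtGlue TopologicalSpace

namespace Groth.L23.SepEt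

variable {X S V : Scheme.{u}} {p : X ⟶ S} {f : V ⟶ X}

/-- Universally open surjections are universally S-subtrusive. -/
theorem univSSubtrusive_of_universallyOpen (p : X ⟶ S) [UniversallyOpen p] [Surjective p] :
    Subtr.UnivSSubtrusive p := by
  intro X' S' i₁ i₂ p' sq
  haveI : UniversallyOpen p' := MorphismProperty.of_isPullback sq.flip inferInstance
  haveI : Surjective p' := MorphismProperty.of_isPullback sq.flip inferInstance
  intro y y' hy
  obtain ⟨x, rfl⟩ := p'.surjective y
  obtain ⟨x', hx', rfl⟩ := Groth.L19.generalizingMap_of_isOpenMap p' p'.isOpenMap hy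
  exact ⟨x, x', hx', rfl, rfl⟩

/-- A universally open surjection onto an affine scheme has an affine etale refinement which is surjective. -/
theorem exists_affine_refinement [IsAffine S] [UniversallyOpen p] [Surjective p] :
    ∃ (Y : Scheme.{u}) (h : Y ⟶ X), IsAffine Y ∧ Etale h ∧ Surjective (h ≫ p) := by
  obtain ⟨t, ht⟩ := isCompact_univ.elim_finite_subcover
    (fun U : X.affineOpens => p '' (U.1 : Set X))
    (fun U => p.isOpenMap _ U.1.2) (fun s _ => by
      obtain ⟨x, rfl⟩ := p.surjective s
      obtain ⟨_, ⟨U, hU, rfl⟩, hxU, -⟩ :=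
        X.isBasis_affineOpens.exists_subset_of_mem_open (Set.mem_univ x) isOpen_univ
      exact Set.mem_iUnion.mpr ⟨⟨U, hU⟩, x, hxU, rfl⟩)
  haveI : ∀ U : {U // U ∈ t}, IsAffine U.1.1.toScheme := fun U => U.1.2
  let h : (∐ fun U : {U // U ∈ t} => U.1.1.toScheme) ⟶ X := Sigma.desc fun U => U.1.1.ι
  refine ⟨_, h, inferInstance, IsZariskiLocalAtSource.sigmaDesc (P := @Etale) fun U => inferInstance, ⟨fun s => ?_⟩⟩
  obtain ⟨U, hU, x, hx, rfl⟩ := Set.mem_iUnion₂.mp (ht (Set.mem_univ s))
  refine ⟨Sigma.ι (fun U : {U // U ∈ t} => U.1.1.toScheme) ⟨U, hU⟩ ⟨x, hx⟩, ?_⟩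
  rw [← Scheme.Hom.comp_apply, Sigma.ι_desc_assoc, Scheme.Hom.comp_apply]
  rfl

/-- Over affine schemes, every point lies in a stable open quasi-compact over the source. -/
theorem exists_stable_qc_open_of_open [IsAffine S] [IsAffine X] [UniversallyOpen p] (P : Pre p f) (v : V) :
    ∃ O : V.Opens, v ∈ O ∧ ∃ _ : Stable P O, QuasiCompact (O.ι ≫ f) := by
  haveI : IsAffineHom p := isAffineHom_of_isAffine _
  haveI : IsAffineHom (src p f) := MorphismProperty.pullback_fst _ _ inferInstance
  haveI : UniversallyOpen (src p f) := MorphismProperty.pullback_fst _ _ inferInstance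
  have : IsIso P.flip := ⟨P.flip, flip_flip P, flip_flip P⟩
  haveI : QuasiCompact P.map := by rw [← flip_src P]; infer_instance
  obtain ⟨_, ⟨M, hM, rfl⟩, hvM, -⟩ :=
    V.isBasis_affineOpens.exists_subset_of_mem_open (Set.mem_univ v) isOpen_univ
  let O : V.Opens := ⟨src p f '' (P.map ⁻¹' (M : Set V)),
    (src p f).isOpenMap _ (M.2.preimage P.map.continuous)⟩
  refine ⟨O, ?_, stable_of_orbit P fun a b hab ha => ?_, ?_⟩
  · obtain ⟨r, hr, hr'⟩ := orbit_refl P v
    refine ⟨r, ?_, hr⟩
    show P.map r ∈ M
    rw [hr']
    exact hvM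
  · obtain ⟨r, hr, rfl⟩ := ha
    obtain ⟨r', h₁, h₂⟩ := Orbit.trans P (Orbit.symm P hab) ⟨r, rfl, rfl⟩
    refine ⟨r', ?_, h₁⟩
    show P.map r' ∈ M
    rw [h₂]
    exact hr
  · haveI : CompactSpace O :=
      isCompact_iff_compactSpace.1 ((P.map.isCompact_preimage hM.isCompact).image (src p f).continuous)
    exact (quasiCompact_iff_compactSpace _).mpr inferInstance

/-- Separated etale data along universally open surjections between affine schemes are effective. -/
theorem etEffective_affine_open [IsAffine S] [IsAffine X] [UniversallyOpen p] [Surjective p] [Etale f]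
    [IsSeparated f] (P : Pre p f) : EtEffective P := by
  have hp := univSSubtrusive_of_universallyOpen p
  let D := fam (toSchDD P)
  haveI : Etale (prj D) := inferInstanceAs (Etale f)
  haveI : IsSeparated (prj D) := inferInstanceAs (IsSeparated f)
  refine etEffective_of_fam P (etEffective_of_cover (Groth.L27.EffDesc.univSubmersive_of_universallyOpen _) _
    fun v => ?_)
  obtain ⟨O, hv, hO, hOc⟩ := exists_stable_qc_open_of_open (preOf D) v
  exact ⟨O, hv, hO, etEffective_affine hp (restrict (preOf D) hO)⟩

/-- Separated etale actions along universally open surjections are effective. -/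
theorem etEffective_of_universallyOpen [UniversallyOpen p] [Surjective p] [Etale f] [IsSeparated f]
    (P : Pre p f) : EtEffective P := by
  have hu := Groth.L27.EffDesc.univSubmersive_of_universallyOpen p
  let D := fam (toSchDD P)
  refine etEffective_of_fam P (etEffective_of_cover hu _ fun v => ?_)
  obtain ⟨W, hW, hvW, -⟩ :=
    exists_isAffineOpen_mem_and_subset (X := S) (x := p (f v)) (U := ⊤) trivial
  refine exists_piece W.ι D ?_ v (by rw [Scheme.Opens.range_ι]; exact hvW)
  let E := pull W.ι D
  let p' := pullback.snd p W.ι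
  haveI : IsAffine W.toScheme := hW
  haveI : UniversallyOpen p' := MorphismProperty.pullback_snd _ _ inferInstance
  haveI : Surjective p' := MorphismProperty.pullback_snd _ _ inferInstance
  haveI : Etale (prj E) := MorphismProperty.pullback_snd (P := @Etale) f _ inferInstance
  haveI : IsSeparated (prj E) := MorphismProperty.pullback_snd (P := @IsSeparated) f _ inferInstance
  obtain ⟨Y, h, hY, he, hs⟩ := exists_affine_refinement (p := p')
  haveI := hY; haveI := he; haveI := hs
  haveI : Smooth h := inferInstance
  haveI : LocallyOfFinitePresentation h := inferInstance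
  haveI : Flat h := inferInstance
  haveI : UniversallyOpen h := inferInstance
  haveI : UniversallyOpen (h ≫ p') := inferInstance
  refine etEffective_of_chart (preOf E) h
    (Groth.L27.EffDesc.univSubmersive_of_universallyOpen _) ?_
  haveI : Etale (pullback.snd (prj E) h) := MorphismProperty.pullback_snd _ _ inferInstance
  haveI : IsSeparated (pullback.snd (prj E) h) := MorphismProperty.pullback_snd _ _ inferInstance
  exact etEffective_affine_open _

/-- Separated etale descent data along universally open surjections. -/
theorem exists_of_universallyOpen (g : X ⟶ S) [UniversallyOpen g] [Surjective g]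
    (D : Desc.SchDD g) [IsSeparated D.obj.hom] [Etale D.obj.hom] :
    ∃ U : Over S, IsSeparated U.hom ∧ Etale U.hom ∧ Nonempty ((Desc.toDD g).obj U ≅ D) := by
  haveI : IsSeparated (prj (fam D)) := inferInstanceAs (IsSeparated D.obj.hom)
  haveI : Etale (prj (fam D)) := inferInstanceAs (Etale D.obj.hom)
  obtain ⟨U, h1, h2, h3, -⟩ := exists_sep_of_effective
    (Groth.L27.EffDesc.univSubmersive_of_universallyOpen _) D
    (etEffective_of_universallyOpen _)
  exact ⟨U, h1, h2, h3⟩

end Groth.L23.SepEt
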