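import Groth.Agent.L23.VRefine.System
import Mathlib.AlgebraicGeometry.Morphisms.Affine

/-!
# Limits of fibre products of cofiltered systems over a base, and affine systems of finite presentation
-/

set_option autoImplicit false
set_option linter.style.haveILetI false
set_option linter.unusedSectionVars false
set_option linter.unusedSimpArgs false
set_option backward.isDefEq.respectTransparency.types false
set_option backward.isDefEq.respectTransparency false

universe u

open CategoryTheory CategoryTheory.Limits AlgebraicGeometry

noncomputable section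

namespace Groth.L23.SepEt

variable {S : Scheme.{u}} {I : Type u} [SmallCategory I] (D E : I ⥤ Over S)

/-- The levelwise fibre product over the base. -/
def prodDiag : I ⥤ Over S where
  obj j := Over.mk (pullback.fst (D.obj j).hom (E.obj j).hom ≫ (D.obj j).hom)
  map {j k} φ := Over.homMk
    (pullback.map (D.obj j).hom (E.obj j).hom (D.obj k).hom (E.obj k).hom (D.map φ).left (E.map φ).left (𝟙 S)
      (by simp) (by simp))
    (show pullback.map _ _ _ _ _ _ _ _ _ ≫ pullback.fst _ _ ≫ _ = pullback.fst _ _ ≫ _ by
      rw [pullback.lift_fst_assoc, Category.assoc, Over.w (D.map φ)])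
  map_id j := Over.OverMorphism.ext (by
    apply pullback.hom_ext <;> simp [pullback.lift_fst, pullback.lift_snd])
  map_comp φ ψ := Over.OverMorphism.ext (by
    apply pullback.hom_ext <;> simp [pullback.lift_fst, pullback.lift_snd])

theorem prodDiag_map_fst {j k : I} (φ : j ⟶ k) :
    ((prodDiag D E).map φ).left ≫ pullback.fst (D.obj k).hom (E.obj k).hom =
      pullback.fst (D.obj j).hom (E.obj j).hom ≫ (D.map φ).left :=
  pullback.lift_fst _ _ _

theorem prodDiag_map_snd {j k : I} (φ : j ⟶ k) :
    ((prodDiag D E).map φ).left ≫ pullback.snd (D.obj k).hom (E.obj k).hom =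
      pullback.snd (D.obj j).hom (E.obj j).hom ≫ (E.map φ).left :=
  pullback.lift_snd _ _ _

variable {D E} (c : Cone D) (e : Cone E)

/-- The fibre product of two cones. -/
def prodCone : Cone (prodDiag D E) where
  pt := Over.mk (pullback.fst c.pt.hom e.pt.hom ≫ c.pt.hom)
  π :=
    { app := fun j => Over.homMk
        (pullback.map c.pt.hom e.pt.hom (D.obj j).hom (E.obj j).hom (c.π.app j).left (e.π.app j).left (𝟙 S)
          (by simp) (by simp))
        (show pullback.map _ _ _ _ _ _ _ _ _ ≫ pullback.fst _ _ ≫ _ = pullback.fst _ _ ≫ _ by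
          rw [pullback.lift_fst_assoc, Category.assoc, Over.w (c.π.app j)]; rfl)
      naturality := fun j k φ => Over.OverMorphism.ext (by
        have hc := congrArg CommaMorphism.left (c.w φ)
        have he := congrArg CommaMorphism.left (e.w φ)
        simp only [Over.comp_left] at hc he
        apply pullback.hom_ext <;>
          simp [prodDiag, pullback.lift_fst, pullback.lift_snd, hc, he]) }

theorem prodCone_fst (j : I) : ((prodCone c e).π.app j).left ≫ pullback.fst (D.obj j).hom (E.obj j).hom =
    pullback.fst c.pt.hom e.pt.hom ≫ (c.π.app j).left :=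
  pullback.lift_fst _ _ _

theorem prodCone_snd (j : I) : ((prodCone c e).π.app j).left ≫ pullback.snd (D.obj j).hom (E.obj j).hom =
    pullback.snd c.pt.hom e.pt.hom ≫ (e.π.app j).left :=
  pullback.lift_snd _ _ _

variable {c e} [IsCofiltered I]

/-- The fibre product of two limit cones is a limit cone. -/
def isLimitProdCone (hc : IsLimit ((Over.forget S).mapCone c)) (he : IsLimit ((Over.forget S).mapCone e)) :
    IsLimit ((Over.forget S).mapCone (prodCone c e)) :=
  let L (s : Cone (prodDiag D E ⋙ Over.forget S)) : s.pt ⟶ pullback c.pt.hom e.pt.hom :=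
    let sD : Cone (D ⋙ Over.forget S) :=
      { pt := s.pt
        π :=
          { app := fun j => s.π.app j ≫ pullback.fst (D.obj j).hom (E.obj j).hom
            naturality := fun j k φ => by
              have h : s.π.app j ≫ ((prodDiag D E).map φ).left = s.π.app k := s.w φ
              show 𝟙 _ ≫ s.π.app k ≫ pullback.fst _ _ = (s.π.app j ≫ pullback.fst _ _) ≫ (D.map φ).left
              rw [Category.id_comp, ← h]
              exact (Category.assoc _ _ _).trans
                ((congrArg (s.π.app j ≫ ·) (prodDiag_map_fst D E φ)).trans (Category.assoc _ _ _).symm) } }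
    let sE : Cone (E ⋙ Over.forget S) :=
      { pt := s.pt
        π :=
          { app := fun j => s.π.app j ≫ pullback.snd (D.obj j).hom (E.obj j).hom
            naturality := fun j k φ => by
              have h : s.π.app j ≫ ((prodDiag D E).map φ).left = s.π.app k := s.w φ
              show 𝟙 _ ≫ s.π.app k ≫ pullback.snd _ _ = (s.π.app j ≫ pullback.snd _ _) ≫ (E.map φ).left
              rw [Category.id_comp, ← h]
              exact (Category.assoc _ _ _).trans
                ((congrArg (s.π.app j ≫ ·) (prodDiag_map_snd D E φ)).trans (Category.assoc _ _ _).symm) } }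
    pullback.lift (hc.lift sD) (he.lift sE) (by
      obtain ⟨j⟩ := IsCofiltered.nonempty (C := I)
      have h1 : hc.lift sD ≫ (c.π.app j).left = s.π.app j ≫ pullback.fst (D.obj j).hom (E.obj j).hom :=
        hc.fac sD j
      have h2 : he.lift sE ≫ (e.π.app j).left = s.π.app j ≫ pullback.snd (D.obj j).hom (E.obj j).hom :=
        he.fac sE j
      have hc' : (c.π.app j).left ≫ (D.obj j).hom = c.pt.hom := Over.w (c.π.app j)
      have he' : (e.π.app j).left ≫ (E.obj j).hom = e.pt.hom := Over.w (e.π.app j)
      refine ((congrArg (hc.lift sD ≫ ·) hc'.symm).trans (Category.assoc _ _ _).symm).trans ?_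
      refine Eq.trans ?_ ((congrArg (he.lift sE ≫ ·) he'.symm).trans (Category.assoc _ _ _).symm).symm
      refine (congrArg (· ≫ (D.obj j).hom) h1).trans (((Category.assoc _ _ _).trans ?_).trans
        (congrArg (· ≫ (E.obj j).hom) h2).symm)
      exact (congrArg (s.π.app j ≫ ·) pullback.condition).trans (Category.assoc _ _ _).symm)
  { lift := fun s => L s
    fac := fun s j => by
      show L s ≫ ((prodCone c e).π.app j).left = s.π.app j
      apply pullback.hom_ext
      · rw [Category.assoc, prodCone_fst, pullback.lift_fst_assoc]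
        exact hc.fac _ j
      · rw [Category.assoc, prodCone_snd, pullback.lift_snd_assoc]
        exact he.fac _ j
    uniq := fun s m hm => by
      let m' : s.pt ⟶ pullback c.pt.hom e.pt.hom := m
      have hm' : ∀ j, m' ≫ ((prodCone c e).π.app j).left = s.π.app j := hm
      show m' = L s
      apply pullback.hom_ext
      · refine Eq.trans ?_ (pullback.lift_fst _ _ _).symm
        exact hc.uniq { pt := s.pt, π := _ } (m' ≫ pullback.fst c.pt.hom e.pt.hom) fun j =>
          (Category.assoc _ _ _).trans ((congrArg (m' ≫ ·) (prodCone_fst c e j).symm).trans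
            ((Category.assoc _ _ _).symm.trans (congrArg (· ≫ pullback.fst _ _) (hm' j))))
      · refine Eq.trans ?_ (pullback.lift_snd _ _ _).symm
        exact he.uniq { pt := s.pt, π := _ } (m' ≫ pullback.snd c.pt.hom e.pt.hom) fun j =>
          (Category.assoc _ _ _).trans ((congrArg (m' ≫ ·) (prodCone_snd c e j).symm).trans
            ((Category.assoc _ _ _).symm.trans (congrArg (· ≫ pullback.snd _ _) (hm' j)))) }

theorem isAffine_prodDiag [IsAffine S] [∀ j, IsAffine (D.obj j).left] [∀ j, IsAffine (E.obj j).left] (j : I) :
    IsAffine ((prodDiag D E).obj j).left :=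
  inferInstanceAs (IsAffine (pullback (D.obj j).hom (E.obj j).hom))

omit D E in
open Groth.L23.VRefine in
/-- An affine scheme over an affine one is a limit of affine schemes of finite presentation. -/
theorem exists_fp_system {X : Scheme.{u}} [IsAffine X] [IsAffine S] (f : X ⟶ S) :
    ∃ (J : Type u) (_ : SmallCategory J) (_ : IsCofiltered J) (D : J ⥤ Over S) (c : Cone D)
      (_ : IsLimit ((Over.forget S).mapCone c)) (_ : c.pt ≅ Over.mk f),
      (∀ j, IsAffine (D.obj j).left) ∧ ∀ j, LocallyOfFinitePresentation (D.obj j).hom := by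
  let α : Γ(S, ⊤) ⟶ Γ(X, ⊤) := f.appTop
  haveI : Nonempty (Idx α) := ⟨⟨∅, ∅⟩⟩
  haveI : IsFiltered (Idx α) := inferInstance
  have hcomp : ∀ {i j : Idx α} (h : i ⟶ j), toStage α i ≫ (sys α).map h = toStage α j := fun {i j} h =>
    CommRingCat.hom_ext (RingHom.ext fun r => congrArg (Ideal.Quotient.mk _) (MvPolynomial.rename_C _ r))
  let D : (Idx α)ᵒᵖ ⥤ Over S :=
    { obj := fun i => Over.mk (Spec.map (toStage α i.unop) ≫ S.isoSpec.inv)
      map := fun {i j} h => Over.homMk (Spec.map ((sys α).map h.unop))
        (show _ ≫ Spec.map (toStage α j.unop) ≫ _ = Spec.map (toStage α i.unop) ≫ _ by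
          rw [← Category.assoc, ← Spec.map_comp, hcomp h.unop])
      map_id := fun i => Over.OverMorphism.ext (by
        show Spec.map ((sys α).map (𝟙 _)) = 𝟙 _
        rw [CategoryTheory.Functor.map_id, Spec.map_id])
      map_comp := fun {i j k} f g => Over.OverMorphism.ext (by
        show Spec.map ((sys α).map _) = Spec.map _ ≫ Spec.map _
        rw [← Spec.map_comp, ← Functor.map_comp]
        rfl) }
  let pt : Over S := Over.mk (Spec.map α ≫ S.isoSpec.inv)
  let c : Cone D :=
    { pt := pt
      π :=
        { app := fun i => Over.homMk (Spec.map ((sysCocone α).ι.app i.unop))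
            (show _ ≫ Spec.map (toStage α i.unop) ≫ _ = Spec.map α ≫ _ by
              rw [← Category.assoc, ← Spec.map_comp]
              exact congrArg (fun m => Spec.map m ≫ S.isoSpec.inv) (toStage_toA α i.unop))
          naturality := fun i j h => Over.OverMorphism.ext (by
            show 𝟙 _ ≫ Spec.map ((sysCocone α).ι.app j.unop) = Spec.map ((sysCocone α).ι.app i.unop) ≫ Spec.map _
            rw [Category.id_comp, ← Spec.map_comp, (sysCocone α).w]) } }
  obtain ⟨hcol⟩ := nonempty_isColimit α
  have hlim : IsLimit ((Over.forget S).mapCone c) :=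
    IsLimit.ofIsoLimit (isLimitOfPreserves Scheme.Spec hcol.op) (Cone.ext (Iso.refl _) fun i => by
      simp [c])
  have hiso : X.isoSpec.inv ≫ f = Spec.map α ≫ S.isoSpec.inv := by
    rw [Iso.inv_comp_eq, ← Category.assoc, Iso.eq_comp_inv, Scheme.isoSpec_hom, Scheme.isoSpec_hom]
    exact Scheme.toSpecΓ_naturality f
  let e : pt ≅ Over.mk f := Over.isoMk X.isoSpec.symm hiso
  refine ⟨_, inferInstance, inferInstance, D, c, hlim, e, fun i => inferInstanceAs (IsAffine (Spec _)), fun i => ?_⟩
  haveI : LocallyOfFinitePresentation (Spec.map (toStage α i.unop)) :=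
    (HasRingHomProperty.Spec_iff (P := @LocallyOfFinitePresentation)).2 (finitePresentation_toStage α i.unop)
  exact inferInstanceAs (LocallyOfFinitePresentation (Spec.map (toStage α i.unop) ≫ S.isoSpec.inv))

end Groth.L23.SepEt
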