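import Groth.Agent.L23.SepEt.Local
import Groth.Agent.L27.TopInv.Hom

/-!
# Etale separated quasi-compact descent data along proper surjections are effective
-/

set_option autoImplicit false
set_option linter.style.haveILetI false
set_option linter.unusedSectionVars false
set_option backward.isDefEq.respectTransparency.types false

universe u

open CategoryTheory CategoryTheory.Limits AlgebraicGeometry Groth.L20.SchDesc Groth.L27.EtGlue TopologicalSpace

namespace Groth.L23.SepEt

/-- A point of the closed set `C` without proper generizations in `C`. -/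
theorem exists_minimal_point {α : Type*} [TopologicalSpace α] [QuasiSober α] [T0Space α] {C : Set α}
    (hC : IsClosed C) (h : C.Nonempty) : ∃ a ∈ C, ∀ b ∈ C, b ⤳ a → b = a := by
  haveI : QuasiSober C := hC.isClosedEmbedding_subtypeVal.quasiSober
  obtain ⟨x, hx⟩ := h
  let Z : Set C := irreducibleComponent ⟨x, hx⟩
  have hZ : IsIrreducible Z := isIrreducible_irreducibleComponent
  let a : C := hZ.genericPoint
  have ha : closure {a} = Z := by
    rw [(hZ.isGenericPoint_genericPoint_closure).def]
    exact isClosed_irreducibleComponent.closure_eq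
  refine ⟨a, a.2, fun b hb hba => ?_⟩
  let b' : C := ⟨b, hb⟩
  have hsp : b' ⤳ a := subtype_specializes_iff _ _ |>.2 hba
  have hle : closure {a} ⊆ closure ({b'} : Set C) := specializes_iff_closure_subset.1 hsp
  have hirr : IsIrreducible (closure ({b'} : Set C)) := isIrreducible_singleton.closure
  have heq : closure ({b'} : Set C) ⊆ closure {a} := by
    rw [ha]
    exact ((irreducibleComponents_eq_maximals_closed C ▸ irreducibleComponent_mem_irreducibleComponents _ :
      Z ∈ {s | Maximal (fun x => IsClosed x ∧ IsIrreducible x) s}).2 ⟨isClosed_closure, hirr⟩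
        (ha ▸ hle))
  exact congrArg Subtype.val
    (Specializes.antisymm hsp (specializes_iff_closure_subset.2 heq)).eq

variable {S' S : Scheme.{u}} {g : S' ⟶ S} {D : Desc.SchDDFam (fun _ : PUnit.{1} => g)}

/-- Effectivity over a field. -/
theorem good_of_field [QuasiCompact g] [Surjective g] [QuasiCompact (prj D)] [IsSeparated (prj D)]
    [Etale (prj D)] (K : Type u) [Field K] (m : Spec (CommRingCat.of K) ⟶ S) : Good D m := by
  haveI : Flat (pullback.snd g m) := Groth.L07.SyntOverField.flat_over_field _
  haveI : QuasiCompact (((Desc.SchDDFam.toSchDD _).obj (pull m D)).obj.hom) :=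
    MorphismProperty.pullback_snd (P := @QuasiCompact) (prj D) (pullback.fst g m) inferInstance
  haveI : IsSeparated (((Desc.SchDDFam.toSchDD _).obj (pull m D)).obj.hom) :=
    MorphismProperty.pullback_snd (P := @IsSeparated) (prj D) (pullback.fst g m) inferInstance
  haveI : Etale (((Desc.SchDDFam.toSchDD _).obj (pull m D)).obj.hom) :=
    MorphismProperty.pullback_snd (P := @Etale) (prj D) (pullback.fst g m) inferInstance
  obtain ⟨U, -, -, h3, ⟨i⟩⟩ :=
    Groth.Agent.S2906.result (pullback.snd g m) ((Desc.SchDDFam.toSchDD _).obj (pull m D))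
  exact good_iff.1 ((etEffective_iff _).1 ⟨U, h3,
    ⟨(Desc.SchDDFam.oneEquiv.{0} (pullback.snd g m)).fullyFaithfulFunctor.preimageIso i⟩⟩)

/-- Effectivity at a point follows from effectivity at its proper generizations. -/
theorem good_stalk_of_generizations [IsProper g] [Surjective g] [LocallyOfFinitePresentation g]
    [QuasiCompact (prj D)] [IsSeparated (prj D)] [Etale (prj D)] (a : S)
    (hlt : ∀ c : S, c ⤳ a → c ≠ a → Good D (S.fromSpecStalk c)) : Good D (S.fromSpecStalk a) := by
  have hg := Groth.L27.TopInv.univSubmersive_of_universallyClosed g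
  let R := S.presheaf.stalk a
  obtain ⟨B, _, _, _, _, hB⟩ := Groth.L05.Henselization.exists_isStrictHenselization R
  haveI := hB.henselian
  haveI : IsSepClosed (IsLocalRing.ResidueField B) := hB.isSepClosure.sep_closed
  haveI := Groth.L05.Henselization.flat_of_isStrictHenselization R B
  haveI := Groth.L05.Henselization.faithfullyFlat_of_flat_local (R := R) (S := B)
  have hmax := Groth.L05.Henselization.map_maximalIdeal_of_isStrictHenselization R B
  let φ : R ⟶ CommRingCat.of B := CommRingCat.ofHom (algebraMap R B)
  obtain ⟨hflat, hsurj⟩ :=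
    RingHom.FaithfullyFlat.iff_flat_and_comap_surjective.1 (RingHom.faithfullyFlat_algebraMap_iff.2
      (inferInstance : Module.FaithfullyFlat R B))
  haveI : Flat (Spec.map φ) := (HasRingHomProperty.Spec_iff (P := @Flat)).2 hflat
  haveI : Surjective (Spec.map φ) := ⟨hsurj⟩
  refine good_of_fpqc_extension hg _ (Spec.map φ) ?_
  let m := Spec.map φ ≫ S.fromSpecStalk a
  let p := pullback.snd g m
  let E := pull m D
  haveI : IsProper p := inferInstance
  haveI : Surjective p := inferInstance
  haveI : Etale (prj E) := MorphismProperty.pullback_snd (P := @Etale) (prj D) _ inferInstance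
  haveI : IsSeparated (prj E) := MorphismProperty.pullback_snd (P := @IsSeparated) (prj D) _ inferInstance
  haveI : QuasiCompact (prj E) := MorphismProperty.pullback_snd (P := @QuasiCompact) (prj D) _ inferInstance
  refine good_iff.1 (etEffective_of_cover (Groth.L27.TopInv.univSubmersive_of_universallyClosed p) _
    fun y => ?_)
  let a' : Spec (CommRingCat.of B) := toS E y
  by_cases ha' : a' = IsLocalRing.closedPoint B
  · exact exists_closed_piece (good_of_field _ _) y ha'
  -- the image of a non-closed point is a proper generization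
  let c := m a'
  have hsp : c ⤳ a := by
    have : Spec.map φ a' ⤳ IsLocalRing.closedPoint R := IsLocalRing.specializes_closedPoint _
    have := this.map (S.fromSpecStalk a).continuous
    rwa [Scheme.fromSpecStalk_closedPoint, ← Scheme.Hom.comp_apply] at this
  have hne : c ≠ a := by
    intro he
    refine ha' ?_
    have h1 : S.fromSpecStalk a (Spec.map φ a') = S.fromSpecStalk a (IsLocalRing.closedPoint R) := by
      rw [Scheme.fromSpecStalk_closedPoint, ← Scheme.Hom.comp_apply]
      exact he
    have h2 : Spec.map φ a' = IsLocalRing.closedPoint R :=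
      (S.fromSpecStalk a).isEmbedding.injective h1
    have h3 : (IsLocalRing.maximalIdeal R).map (algebraMap R B) ≤ a'.asIdeal :=
      Ideal.map_le_iff_le_comap.2 (congrArg PrimeSpectrum.asIdeal h2).ge
    rw [hmax] at h3
    exact PrimeSpectrum.ext ((IsLocalRing.maximalIdeal.isMaximal B).eq_of_le a'.2.ne_top h3).symm
  have hgc : Good D ((Spec (CommRingCat.of B)).fromSpecStalk a' ≫ m) :=
    (hlt c hsp hne).baseChange (Spec.map (m.stalkMap a')) (Scheme.SpecMap_stalkMap_fromSpecStalk m)
  obtain ⟨t, ht, hκ, hc⟩ := hgc
  haveI := hκ
  obtain ⟨t', ht', hκ', hc'⟩ := exists_tup_pull ((Spec (CommRingCat.of B)).fromSpecStalk a') t hc @Etale ht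
  obtain ⟨W, haW, hW⟩ := exists_nhd (D := E) a' ⟨t', ht', hκ', hc'⟩
  exact exists_piece W.ι E (good_iff.2 hW) y (by rw [Scheme.Opens.range_ι]; exact haW)

/-- Proper surjections of finite presentation are effective for etale separated quasi-compact data. -/
theorem etEffective_of_proper [IsProper g] [Surjective g] [LocallyOfFinitePresentation g]
    [QuasiCompact (prj D)] [IsSeparated (prj D)] [Etale (prj D)] : EtEffective (preOf D) := by
  have hg := Groth.L27.TopInv.univSubmersive_of_universallyClosed g
  have key : ∀ a : S, Good D (S.fromSpecStalk a) := by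
    let C : Set S := {a | ¬ Good D (S.fromSpecStalk a)}
    have hC : IsClosed C := by
      refine ⟨isOpen_iff_forall_mem_open.2 fun a ha => ?_⟩
      obtain ⟨W, haW, hW⟩ := exists_nhd a (not_not.1 ha)
      exact ⟨W, fun b hb hb' => hb' (hW.of_nhd hb), W.2, haW⟩
    by_contra! hne
    obtain ⟨a, ha⟩ := hne
    obtain ⟨a₀, ha₀, hmin⟩ := exists_minimal_point hC ⟨a, ha⟩
    exact ha₀ (good_stalk_of_generizations a₀ fun c hc hca => by
      by_contra hcC
      exact hca (hmin c hcC hc))
  exact etEffective_of_forall_good hg fun a => exists_nhd a (key a)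

end Groth.L23.SepEt
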