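import Groth.Agent.L23.SepEt.Affine
import Mathlib.AlgebraicGeometry.Morphisms.Descent
import Mathlib.AlgebraicGeometry.Morphisms.Flat

/-!
# Quasi-compact separated etale data along quasi-compact universally subtrusive morphisms
-/

set_option autoImplicit false
set_option linter.style.haveILetI false
set_option linter.unusedSectionVars false
set_option backward.isDefEq.respectTransparency.types false

universe u

open CategoryTheory CategoryTheory.Limits AlgebraicGeometry Groth.L20.SchDesc Groth.L27.EtGlue

namespace Groth.L23.SepEt

variable {X S V : Scheme.{u}} {p : X ⟶ S} {f : V ⟶ X}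

/-- Over an affine base with quasi-compact source. -/
theorem etEffective_of_compact [IsAffine S] [CompactSpace X] (hp : Subtr.UnivSSubtrusive p) [Etale f]
    [IsSeparated f] [QuasiCompact f] (P : Pre p f) : EtEffective P := by
  obtain ⟨Y, h, hs, he, hY⟩ := Scheme.exists_hom_isAffine_of_isZariskiLocalAtSource (P := @Etale) X
  haveI := hs; haveI := he; haveI := hY
  haveI : Smooth h := inferInstance
  haveI : Flat h := inferInstance
  have hhp : Subtr.UnivSSubtrusive (h ≫ p) :=
    Groth.L09.SubtrLimit.univ_comp (Groth.L09.Subtr.univ_of_flat h) hp
  refine etEffective_of_chart P h (Groth.L09.Subtr.univSubmersive_of_univSSubtrusive _ hhp) ?_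
  haveI : Etale (pullback.snd f h) := MorphismProperty.pullback_snd _ _ inferInstance
  haveI : IsSeparated (pullback.snd f h) := MorphismProperty.pullback_snd _ _ inferInstance
  haveI : QuasiCompact (pullback.snd f h) := MorphismProperty.pullback_snd _ _ inferInstance
  exact etEffective_affine hhp _

/-- Quasi-compact separated etale actions along quasi-compact universally subtrusive morphisms are effective. -/
theorem etEffective_of_univSSubtrusive_qc [QuasiCompact p] (hp : Subtr.UnivSSubtrusive p) [Etale f]
    [IsSeparated f] [QuasiCompact f] (P : Pre p f) : EtEffective P := by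
  have hu := Groth.L09.Subtr.univSubmersive_of_univSSubtrusive p hp
  let D := fam (toSchDD P)
  refine etEffective_of_fam P (etEffective_of_cover hu _ fun v => ?_)
  obtain ⟨W, hW, hvW, -⟩ :=
    exists_isAffineOpen_mem_and_subset (X := S) (x := p (f v)) (U := ⊤) trivial
  refine exists_piece W.ι D ?_ v (by rw [Scheme.Opens.range_ι]; exact hvW)
  let E := pull W.ι D
  let p' := pullback.snd p W.ι
  haveI : IsAffine W.toScheme := hW
  haveI : QuasiCompact p' := MorphismProperty.pullback_snd _ _ inferInstance
  haveI : CompactSpace ↥(pullback p W.ι) := QuasiCompact.compactSpace_of_compactSpace p'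
  have hp' : Subtr.UnivSSubtrusive p' :=
    (MorphismProperty.universally_isStableUnderBaseChange _).of_isPullback
      (IsPullback.of_hasPullback p W.ι) hp
  haveI : Etale (prj E) := MorphismProperty.pullback_snd (P := @Etale) f _ inferInstance
  haveI : IsSeparated (prj E) := MorphismProperty.pullback_snd (P := @IsSeparated) f _ inferInstance
  haveI : QuasiCompact (prj E) := MorphismProperty.pullback_snd (P := @QuasiCompact) f _ inferInstance
  exact etEffective_of_compact hp' (preOf E)

/-- Quasi-compact separated etale descent data along quasi-compact universally subtrusive morphisms. -/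
theorem exists_of_univSSubtrusive (g : X ⟶ S) [QuasiCompact g] (hg : Subtr.UnivSSubtrusive g)
    (D : Desc.SchDD g) [QuasiCompact D.obj.hom] [IsSeparated D.obj.hom] [Etale D.obj.hom] :
    ∃ U : Over S, QuasiCompact U.hom ∧ IsSeparated U.hom ∧ Etale U.hom ∧
      Nonempty ((Desc.toDD g).obj U ≅ D) := by
  haveI : IsSeparated (prj (fam D)) := inferInstanceAs (IsSeparated D.obj.hom)
  haveI : QuasiCompact (prj (fam D)) := inferInstanceAs (QuasiCompact D.obj.hom)
  haveI : Etale (prj (fam D)) := inferInstanceAs (Etale D.obj.hom)
  exact exists_qc_sep_of_effective (Groth.L09.Subtr.univSubmersive_of_univSSubtrusive g hg) D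
    (etEffective_of_univSSubtrusive_qc hg _)

end Groth.L23.SepEt
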